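import Cfsg.Agent.Lib.Fischer2.LargeExtraspecial

/-!
Double centralizers in extraspecial 2-subgroups.
-/

set_option autoImplicit false

namespace CfsgLib.ClassK

open Cfsg CfsgLib.Fischer2

variable {G : Type*} [Group G] [Finite G] {Q : Subgroup G}

theorem card_inf_centralizer_mono_aux (hQ : IsExtraspecial 2 ↥Q) {E : Subgroup G} (hEQ : E ≤ Q) :
    ∀ n : ℕ, ∀ D : Subgroup G, Nat.card ↥E - Nat.card ↥D = n →
      (Subgroup.center ↥Q).map Q.subtype ≤ D → D ≤ E →
      Nat.card ↥(Q ⊓ Subgroup.centralizer (D : Set G) : Subgroup G) * Nat.card ↥D ≤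
        Nat.card ↥(Q ⊓ Subgroup.centralizer (E : Set G) : Subgroup G) * Nat.card ↥E := by
  intro n
  induction n using Nat.strong_induction_on with
  | _ n ih =>
    intro D hn hZD hDE
    rcases eq_or_lt_of_le hDE with rfl | hlt
    · exact le_rfl
    obtain ⟨z, hz2, hzQ, hzZ, hZeq⟩ := IsExtraspecial.exists_center_gen hQ
    have hz1 : z ≠ 1 := by
      intro h; rw [h, orderOf_one] at hz2; omega
    obtain ⟨d, hdE, hdD⟩ := SetLike.exists_of_lt hlt
    set D' : Subgroup G := D ⊔ Subgroup.zpowers d with hD'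
    have hD'E : D' ≤ E := sup_le hDE (Subgroup.zpowers_le.mpr hdE)
    have hDD' : D < D' := by
      refine lt_of_le_of_ne le_sup_left fun h => hdD ?_
      rw [h]
      exact (le_sup_right : Subgroup.zpowers d ≤ D') (Subgroup.mem_zpowers d)
    have hcard : 2 * Nat.card ↥D ≤ Nat.card ↥D' := by
      obtain ⟨k, hk⟩ := Subgroup.card_dvd_of_le hDD'.le
      have hpos : 0 < Nat.card ↥D' := Nat.card_pos
      have : k ≠ 1 := by
        rintro rfl
        exact hDD'.ne (Subgroup.eq_of_le_of_card_ge hDD'.le (by omega))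
      have : k ≠ 0 := by rintro rfl; omega
      rw [hk, Nat.mul_comm 2]
      exact Nat.mul_le_mul_left _ (by omega)
    set C : Subgroup G := Q ⊓ Subgroup.centralizer (D : Set G) with hC
    set C' : Subgroup G := Q ⊓ Subgroup.centralizer (D' : Set G) with hC'
    have hmemC' : ∀ y ∈ C, y * d = d * y → y ∈ C' := by
      intro y hy hyd
      refine ⟨hy.1, ?_⟩
      have : D' ≤ Subgroup.centralizer ({y} : Set G) := by
        refine sup_le (fun x hx => ?_) (Subgroup.zpowers_le.mpr ?_)
        · rw [Subgroup.mem_centralizer_singleton_iff]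
          exact Subgroup.mem_centralizer_iff.mp hy.2 x hx
        · rw [Subgroup.mem_centralizer_singleton_iff]; exact hyd.symm
      exact Subgroup.mem_centralizer_iff.mpr fun x hx =>
        Subgroup.mem_centralizer_singleton_iff.mp (this hx)
    have hhalf : Nat.card ↥C ≤ 2 * Nat.card ↥C' := by
      by_cases hall : ∀ y ∈ C, y * d = d * y
      · have := Subgroup.card_le_of_le (fun y hy => hmemC' y hy (hall y hy) : C ≤ C')
        omega
      push Not at hall
      obtain ⟨y₀, hy₀, hy₀d⟩ := hall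
      have hconj : ∀ y ∈ C, y * d ≠ d * y → y * d = z * d * y := by
        intro y hy hyd
        rcases IsExtraspecial.conj_eq_or hQ hzZ hz1 (hEQ hdE) hy.1 with h | h
        · exact absurd (mul_inv_eq_iff_eq_mul.mp h) hyd
        · exact mul_inv_eq_iff_eq_mul.mp h
      have hprod : ∀ y ∈ C, y * d ≠ d * y → y₀⁻¹ * y ∈ C' := by
        intro y hy hyd
        refine hmemC' _ (C.mul_mem (C.inv_mem hy₀) hy) ?_
        have h0 := hconj y₀ hy₀ hy₀d
        have h1 := hconj y hy hyd
        calc y₀⁻¹ * y * d = y₀⁻¹ * (z * d * y) := by rw [mul_assoc, h1]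
          _ = (y₀⁻¹ * (z * d * y₀)) * y₀⁻¹ * y := by group
          _ = (y₀⁻¹ * (y₀ * d)) * y₀⁻¹ * y := by rw [h0]
          _ = d * (y₀⁻¹ * y) := by group
      classical
      have hsurj : Function.Surjective (fun u : ↥C' × Bool =>
          (⟨(if u.2 then y₀ else 1) * (u.1 : G),
            C.mul_mem (by split <;> [exact hy₀; exact C.one_mem])
              ⟨u.1.2.1, Subgroup.centralizer_le (show (D : Set G) ⊆ D' from hDD'.le) u.1.2.2⟩⟩ : ↥C)) := by
        rintro ⟨y, hy⟩
        by_cases hyd : y * d = d * y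
        · exact ⟨(⟨y, hmemC' y hy hyd⟩, false), Subtype.ext (by simp)⟩
        · exact ⟨(⟨y₀⁻¹ * y, hprod y hy hyd⟩, true), Subtype.ext (by simp)⟩
      have := Nat.card_le_card_of_surjective _ hsurj
      simp [Nat.card_prod] at this
      omega
    refine le_trans ?_ (ih (Nat.card ↥E - Nat.card ↥D') ?_ D' rfl (hZD.trans hDD'.le) hD'E)
    · calc Nat.card ↥C * Nat.card ↥D ≤ 2 * Nat.card ↥C' * Nat.card ↥D :=
            Nat.mul_le_mul_right _ hhalf
        _ = Nat.card ↥C' * (2 * Nat.card ↥D) := by ring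
        _ ≤ Nat.card ↥C' * Nat.card ↥D' := Nat.mul_le_mul_left _ hcard
    · have h1 : 0 < Nat.card ↥D := Nat.card_pos
      have h2 := Subgroup.card_le_of_le hD'E
      omega

/-- `|C_Q(D)| |D| = 2 |Q|` for `Z(Q) ≤ D ≤ Q`, `Q` extraspecial. -/
theorem card_inf_centralizer_mul_card (hQ : IsExtraspecial 2 ↥Q) {D : Subgroup G}
    (hZD : (Subgroup.center ↥Q).map Q.subtype ≤ D) (hDQ : D ≤ Q) :
    Nat.card ↥(Q ⊓ Subgroup.centralizer (D : Set G) : Subgroup G) * Nat.card ↥D = 2 * Nat.card ↥Q := by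
  set Z : Subgroup G := (Subgroup.center ↥Q).map Q.subtype with hZ
  have hZcard : Nat.card ↥Z = 2 := IsExtraspecial.card_centerImage hQ
  have h1 : Q ⊓ Subgroup.centralizer (Q : Set G) = Z := by
    ext x
    rw [hZ, mem_centerImage_iff, Subgroup.mem_inf, Subgroup.mem_centralizer_iff]
    exact and_congr_right fun _ => ⟨fun h y hy => (h y hy).symm, fun h y hy => (h y hy).symm⟩
  have h2 : Q ⊓ Subgroup.centralizer (Z : Set G) = Q := inf_eq_left.mpr (le_centralizer_centerImage Q)
  have hup := card_inf_centralizer_mono_aux hQ le_rfl _ D rfl hZD hDQ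
  have hlo := card_inf_centralizer_mono_aux hQ hDQ _ Z rfl le_rfl hZD
  rw [h1, hZcard] at hup
  rw [h2, hZcard] at hlo
  omega

/-- Double centralizer in an extraspecial 2-group. -/
theorem inf_centralizer_inf_centralizer (hQ : IsExtraspecial 2 ↥Q) {D : Subgroup G}
    (hZD : (Subgroup.center ↥Q).map Q.subtype ≤ D) (hDQ : D ≤ Q) :
    Q ⊓ Subgroup.centralizer ((Q ⊓ Subgroup.centralizer (D : Set G) : Subgroup G) : Set G) = D := by
  set C : Subgroup G := Q ⊓ Subgroup.centralizer (D : Set G) with hC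
  have hZC : (Subgroup.center ↥Q).map Q.subtype ≤ C := by
    intro x hx
    refine ⟨centerImage_le Q hx, Subgroup.mem_centralizer_iff.mpr fun d hd => ?_⟩
    exact (((mem_centerImage_iff Q x).mp hx).2 d (hDQ hd)).symm
  have h1 := card_inf_centralizer_mul_card hQ hZD hDQ
  have h2 := card_inf_centralizer_mul_card hQ hZC inf_le_left
  have hle : D ≤ Q ⊓ Subgroup.centralizer (C : Set G) := fun d hd =>
    ⟨hDQ hd, Subgroup.mem_centralizer_iff.mpr fun c hc =>
      (Subgroup.mem_centralizer_iff.mp hc.2 d hd).symm⟩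
  refine (Subgroup.eq_of_le_of_card_ge hle ?_).symm
  rw [← hC] at h1
  have hpos : 0 < Nat.card ↥C := Nat.card_pos
  refine Nat.le_of_mul_le_mul_right ?_ hpos
  rw [h2, ← h1, Nat.mul_comm]

end CfsgLib.ClassK
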