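import Cfsg.Agent.Lib.ClassK.SLMinors
import Cfsg.Agent.Lib.ClassicalLinear.Sylow
import Cfsg.Agent.Lib.CharTheory.Convolution
import Cfsg.Agent.Lib.Blocks.DefectZero

/-!
# The special linear group has a single character of defect zero in its own characteristic
-/

set_option autoImplicit false
set_option linter.style.haveILetI false
set_option linter.unusedSectionVars false

open Matrix Cfsg CfsgLib.Blocks

namespace CfsgLib.ClassK.SLn

/-- Orbit decomposition of an invariant sum. -/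
theorem sum_mem_card_smul {V X : Type*} [Group V] [Finite V] [MulAction V X] [Fintype X]
    (f : X → ℂ) (P : ℂ → Prop) (h0 : P 0) (hadd : ∀ a b, P a → P b → P (a + b))
    (hf : ∀ (v : V) x, f (v • x) = f x)
    (h : ∀ x, ∃ s, P s ∧ f x = (Nat.card (MulAction.stabilizer V x) : ℂ) * s) :
    ∃ s, P s ∧ ∑ x, f x = (Nat.card V : ℂ) * s := by
  classical
  haveI := Fintype.ofFinite V
  haveI : Fintype (MulAction.orbitRel.Quotient V X) := Fintype.ofFinite _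
  choose s hs hfs using h
  refine ⟨∑ ω : MulAction.orbitRel.Quotient V X, s ω.out,
    Finset.sum_induction _ P hadd h0 (fun ω _ => hs _), ?_⟩
  rw [Finset.mul_sum, ← Equiv.sum_comp (MulAction.selfEquivSigmaOrbits V X).symm,
    Fintype.sum_sigma]
  refine Finset.sum_congr rfl fun ω _ => ?_
  have hc : ∀ y : MulAction.orbit V ω.out,
      f ((MulAction.selfEquivSigmaOrbits V X).symm ⟨ω, y⟩) = f ω.out := by
    intro y
    obtain ⟨v, hv⟩ := y.2
    have : ((MulAction.selfEquivSigmaOrbits V X).symm ⟨ω, y⟩) = (y : X) := rfl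
    rw [this, ← hv]
    exact hf v _
  rw [Finset.sum_congr rfl fun y _ => hc y, Finset.sum_const, Finset.card_univ, nsmul_eq_mul,
    hfs, ← mul_assoc, ← Nat.cast_mul]
  congr 2
  rw [Nat.card_eq_fintype_card, Nat.card_eq_fintype_card,
    MulAction.card_orbit_mul_card_stabilizer_eq_card_group]

/-- The convolution of two irreducible characters. -/
theorem sum_irr_mul_inv {G : Type*} [Group G] [Fintype G] (χ ψ : IrrCharacter G)
    [Decidable (χ = ψ)] (x : G) :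
    ∑ h : G, (χ : G → ℂ) h * (ψ : G → ℂ) (h⁻¹ * x) =
      if χ = ψ then (Nat.card G : ℂ) * (ψ : G → ℂ) x / (ψ : G → ℂ) 1 else 0 := by
  classical
  have hG : (Nat.card G : ℂ) ≠ 0 := Nat.cast_ne_zero.2 Nat.card_pos.ne'
  have h1 : ∀ y : G, ∑ h : G, (χ : G → ℂ) h * (ψ : G → ℂ) (h⁻¹ * x) =
      ∑ h : G, (χ : G → ℂ) h * (ψ : G → ℂ) (y * h⁻¹ * y⁻¹ * x) := by
    intro y
    symm
    refine Fintype.sum_equiv (MulAut.conj y).toEquiv _ _ fun h => ?_
    simp only [MulEquiv.toEquiv_eq_coe, EquivLike.coe_coe, MulAut.conj_apply, _root_.mul_inv_rev, inv_inv,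
      mul_assoc]
    rw [← mul_assoc y h, CharTheory.IsIrrCharacter.isClassFunction χ.2 h y]
  have h2 : (Nat.card G : ℂ) * ∑ h : G, (χ : G → ℂ) h * (ψ : G → ℂ) (h⁻¹ * x) =
      (Nat.card G : ℂ) * (ψ : G → ℂ) x / (ψ : G → ℂ) 1 *
        ∑ h : G, (χ : G → ℂ) h * (ψ : G → ℂ) h⁻¹ := by
    have e : (Nat.card G : ℂ) * ∑ h : G, (χ : G → ℂ) h * (ψ : G → ℂ) (h⁻¹ * x) =
        ∑ y : G, ∑ h : G, (χ : G → ℂ) h * (ψ : G → ℂ) (y * h⁻¹ * y⁻¹ * x) := by
      rw [← Finset.sum_congr rfl fun y _ => h1 y, Finset.sum_const, Finset.card_univ,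
        nsmul_eq_mul, Nat.card_eq_fintype_card]
    rw [e, Finset.sum_comm, Finset.mul_sum]
    refine Finset.sum_congr rfl fun h _ => ?_
    rw [← Finset.mul_sum, CharTheory.IsIrrCharacter.sum_conj_mul ψ.2]
    ring
  have h3 := CharTheory.classInner_eq_sum_inv (φ := (χ : G → ℂ))
    (CharTheory.IsIrrCharacter.isCharacter ψ.2)
  rw [CharTheory.classInner_irrCharacter, eq_inv_mul_iff_mul_eq₀ hG] at h3
  rw [← h3] at h2
  refine mul_left_cancel₀ hG (h2.trans ?_)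
  split_ifs <;> ring

variable {n : ℕ} {F : Type*} [Field F] [Fintype F] {p : ℕ} [Fact p.Prime] [CharP F p]
variable {M : Ideal AlgInt}

local notation "𝔾" => SpecialLinearGroup (Fin n) F

variable (p) in
theorem card_eq_sylow (P : Sylow p 𝔾) :
    Nat.card (upperU n F) = Nat.card (P : Subgroup 𝔾) := by
  rw [CfsgLib.ClassicalLinear.card_sylow_SL p P, Fintype.card_fin, card_upperU]

variable (p) in
theorem isPGroup_upperU : IsPGroup p (upperU n F) := by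
  obtain ⟨P⟩ := (inferInstance : Nonempty (Sylow p 𝔾))
  exact IsPGroup.of_card ((card_eq_sylow p P).trans P.card_eq_multiplicity)

variable (p) in
theorem not_dvd_index_upperU : ¬ p ∣ (upperU n F).index := by
  obtain ⟨P⟩ := (inferInstance : Nonempty (Sylow p 𝔾))
  have h1 := Subgroup.card_mul_index (upperU n F)
  rw [← Subgroup.card_mul_index (P : Subgroup 𝔾), card_eq_sylow p P] at h1
  rw [Nat.eq_of_mul_eq_mul_left Nat.card_pos h1]
  exact P.not_dvd_index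

/-- The sum of a function over a unitriangular coset. -/
noncomputable def uSum (χ : SpecialLinearGroup (Fin n) F → ℂ) (g : SpecialLinearGroup (Fin n) F) :
    ℂ :=
  haveI := Fintype.ofFinite (upperU n F)
  ∑ u : upperU n F, χ ((u : SpecialLinearGroup (Fin n) F) * g)

theorem uSum_eq [Fintype (upperU n F)] (χ : 𝔾 → ℂ) (g : 𝔾) :
    uSum χ g = ∑ u : upperU n F, χ ((u : 𝔾) * g) := by
  unfold uSum
  convert rfl

theorem uSum_mul_left (χ : 𝔾 → ℂ) {v : 𝔾} (hv : v ∈ upperU n F) (g : 𝔾) :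
    uSum χ (v * g) = uSum χ g := by
  classical
  haveI := Fintype.ofFinite (upperU n F)
  rw [uSum_eq, uSum_eq]
  exact Fintype.sum_equiv (Equiv.mulRight ⟨v, hv⟩) _ _ fun u => by simp [mul_assoc]

theorem uSum_mul_right {χ : 𝔾 → ℂ} (hχ : IsClassFunction 𝔾 χ) {v : 𝔾} (hv : v ∈ upperU n F)
    (g : 𝔾) : uSum χ (g * v) = uSum χ g := by
  classical
  haveI := Fintype.ofFinite (upperU n F)
  rw [uSum_eq, uSum_eq]
  refine Fintype.sum_equiv (Equiv.mulLeft ⟨v, hv⟩) _ _ fun u => ?_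
  rw [← hχ ((u : 𝔾) * (g * v)) v]
  simp [mul_assoc]

theorem memLocalRing_uSum [M.IsPrime] (χ : IrrCharacter 𝔾) (g : 𝔾) :
    MemLocalRing M (uSum (χ : 𝔾 → ℂ) g) := by
  haveI := Fintype.ofFinite (upperU n F)
  rw [uSum_eq]
  exact memLocalRing_sum fun u _ => memLocalRing_irr χ _

/-- The part of the unitriangular group moved into itself by `g`. -/
noncomputable def uInter (g : SpecialLinearGroup (Fin n) F) :
    Subgroup (SpecialLinearGroup (Fin n) F) :=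
  upperU n F ⊓ (upperU n F).comap (MulAut.conj g).toMonoidHom

theorem mem_uInter {g v : 𝔾} : v ∈ uInter g ↔ v ∈ upperU n F ∧ g * v * g⁻¹ ∈ upperU n F :=
  Iff.rfl

theorem card_uInter_inv (g : 𝔾) : Nat.card (uInter g⁻¹) = Nat.card (uInter g) :=
  Nat.card_congr
    { toFun := fun v => ⟨g⁻¹ * v.1 * g, by
        have h1 := (mem_uInter.1 v.2)
        rw [inv_inv] at h1
        refine mem_uInter.2 ⟨h1.2, ?_⟩
        have : g * (g⁻¹ * v.1 * g) * g⁻¹ = v.1 := by group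
        rw [this]; exact h1.1⟩
      invFun := fun v => ⟨g * v.1 * g⁻¹, by
        have h1 := (mem_uInter.1 v.2)
        refine mem_uInter.2 ⟨h1.2, ?_⟩
        have : g⁻¹ * (g * v.1 * g⁻¹) * g⁻¹⁻¹ = v.1 := by group
        rw [this]; exact h1.1⟩
      left_inv := fun v => Subtype.ext (by group)
      right_inv := fun v => Subtype.ext (by group) }

/-- Divisibility of a coset sum by the order of the intersection. -/
theorem exists_uSum_eq [M.IsPrime] (χ : IrrCharacter 𝔾) {d : ℕ}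
    (hd : (d : ℂ) * (χ : 𝔾 → ℂ) 1 = Nat.card 𝔾) (g : 𝔾) :
    ∃ s, MemLocalRing M s ∧ (d : ℂ) * uSum (χ : 𝔾 → ℂ) g = (Nat.card (uInter g) : ℂ) * s := by
  classical
  haveI := Fintype.ofFinite (upperU n F)
  letI : MulAction (uInter g) (upperU n F) :=
    { smul := fun v u => ⟨(v : 𝔾) * u * (g * (v : 𝔾)⁻¹ * g⁻¹), mul_mem (mul_mem v.2.1 u.2) (by
        have := inv_mem (mem_uInter.1 v.2).2
        simpa [mul_assoc] using this)⟩
      one_smul := fun u => Subtype.ext (by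
        show (1 : 𝔾) * u * (g * (1 : 𝔾)⁻¹ * g⁻¹) = u
        simp)
      mul_smul := fun v w u => Subtype.ext (by
        show ((v : 𝔾) * w) * u * (g * ((v : 𝔾) * w)⁻¹ * g⁻¹) =
          (v : 𝔾) * ((w : 𝔾) * u * (g * (w : 𝔾)⁻¹ * g⁻¹)) * (g * (v : 𝔾)⁻¹ * g⁻¹)
        group) }
  have hcoe : ∀ (v : uInter g) (u : upperU n F),
      ((v • u : upperU n F) : 𝔾) * g = (v : 𝔾) * ((u : 𝔾) * g) * (v : 𝔾)⁻¹ := fun v u => by
    show (v : 𝔾) * u * (g * (v : 𝔾)⁻¹ * g⁻¹) * g = _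
    group
  rw [uSum_eq, Finset.mul_sum]
  refine sum_mem_card_smul (V := uInter g) _ (MemLocalRing M) (zero_mem (locRing M))
    (fun a b => memLocalRing_add) (fun v u => by
      rw [hcoe, CharTheory.IsIrrCharacter.isClassFunction χ.2]) fun u => ?_
  set x := (u : 𝔾) * g with hx
  set C := Subgroup.centralizer ({x} : Set 𝔾)
  have hle : (MulAction.stabilizer (uInter g) u).map (uInter g).subtype ≤ C := by
    rintro _ ⟨v, hv, rfl⟩
    rw [Subgroup.mem_centralizer_singleton_iff]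
    have hh := hcoe v u
    rw [MulAction.mem_stabilizer_iff.1 hv] at hh
    show (v : 𝔾) * x = x * v
    conv_rhs => rw [hx, hh]
    simp [hx, mul_assoc]
  obtain ⟨c, hc⟩ : Nat.card (MulAction.stabilizer (uInter g) u) ∣ Nat.card C := by
    have := Subgroup.card_dvd_of_le hle
    rwa [Subgroup.card_map_of_injective (uInter g).subtype_injective] at this
  refine ⟨(c : ℂ) * centralChar (χ : 𝔾 → ℂ) x,
    memLocalRing_mul (memLocalRing_natCast c) (memLocalRing_centralChar χ x), ?_⟩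
  rw [← mul_assoc, ← Nat.cast_mul, ← hc, centralChar_apply]
  have h1 : (χ : 𝔾 → ℂ) 1 ≠ 0 := CharTheory.apply_one_ne_zero_of_isIrr χ.2
  have h2 : (Nat.card C : ℂ) * (C.index : ℂ) = (d : ℂ) * (χ : 𝔾 → ℂ) 1 := by
    rw [hd, ← Nat.cast_mul, Subgroup.card_mul_index]
  field_simp
  linear_combination (-(χ : 𝔾 → ℂ) x) * h2

/-- The degree quotient of a character. -/
theorem cast_div_mul (χ : IrrCharacter 𝔾) :
    ((Nat.card 𝔾 / charDegree (χ : 𝔾 → ℂ) : ℕ) : ℂ) * (χ : 𝔾 → ℂ) 1 = Nat.card 𝔾 := by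
  rw [← charDegree_cast χ, ← Nat.cast_mul, Nat.div_mul_cancel (charDegree_dvd_card χ)]

variable [hMp : M.IsPrime]

/-- Coset sums vanish modulo the prime unless the intersection is trivial. -/
theorem memLocalIdeal_uSum (hM : IsPModular p M) (χ : IrrCharacter 𝔾)
    (hχ : ¬ p ∣ Nat.card 𝔾 / charDegree (χ : 𝔾 → ℂ)) {g v : 𝔾} (hv : v ∈ upperU n F) (hv1 : v ≠ 1)
    (hg : g * v * g⁻¹ ∈ upperU n F) : MemLocalIdeal M (uSum (χ : 𝔾 → ℂ) g) := by
  obtain ⟨s, hs, he⟩ := exists_uSum_eq (M := M) χ (cast_div_mul χ) g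
  have hne : uInter g ≠ ⊥ := fun e => hv1 (by
    have : v ∈ uInter g := mem_uInter.2 ⟨hv, hg⟩
    rwa [e, Subgroup.mem_bot] at this)
  have hp : p ∣ Nat.card (uInter g) := by
    have hP : IsPGroup p (uInter g) := (isPGroup_upperU p).to_le inf_le_left
    obtain ⟨k, hk⟩ := IsPGroup.iff_card.1 hP
    rcases k with _ | k
    · exact absurd (Subgroup.eq_bot_of_card_eq _ (by simpa using hk)) hne
    · exact hk ▸ dvd_pow_self p k.succ_ne_zero
  have h1 : MemLocalIdeal M ((Nat.card (uInter g) : ℂ) * s) :=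
    memLocalIdeal_mul_right ((memLocalIdeal_natCast_iff hM _).2 hp) hs
  rw [← he] at h1
  have hd0 : ((Nat.card 𝔾 / charDegree (χ : 𝔾 → ℂ) : ℕ) : ℂ) ≠ 0 :=
    Nat.cast_ne_zero.2 fun e => hχ (e ▸ dvd_zero p)
  have := memLocalIdeal_mul_left (memLocalRing_inv_natCast hM hχ) h1
  rwa [inv_mul_cancel_left₀ hd0] at this

/-- Orthogonality for coset sums. -/
theorem sum_uSum_mul_uSum (χ ψ : IrrCharacter 𝔾) [Fintype 𝔾] [Decidable (χ = ψ)] (g : 𝔾) :
    ∑ h : 𝔾, uSum (χ : 𝔾 → ℂ) h * uSum (ψ : 𝔾 → ℂ) (h⁻¹ * g) =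
      if χ = ψ then (Nat.card (upperU n F) : ℂ) * ((Nat.card 𝔾 : ℂ) / (ψ : 𝔾 → ℂ) 1) *
        uSum (ψ : 𝔾 → ℂ) g else 0 := by
  classical
  haveI := Fintype.ofFinite (upperU n F)
  have key : ∀ u v : upperU n F, ∑ h : 𝔾, (χ : 𝔾 → ℂ) ((u : 𝔾) * h) *
      (ψ : 𝔾 → ℂ) ((v : 𝔾) * (h⁻¹ * g)) = if χ = ψ then
        (Nat.card 𝔾 : ℂ) * (ψ : 𝔾 → ℂ) ((u : 𝔾) * g * v) / (ψ : 𝔾 → ℂ) 1 else 0 := by
    intro u v
    rw [← sum_irr_mul_inv χ ψ]
    refine Fintype.sum_equiv (Equiv.mulLeft (u : 𝔾)) _ _ fun h => ?_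
    rw [← CharTheory.IsIrrCharacter.isClassFunction ψ.2 ((v : 𝔾) * (h⁻¹ * g)) (v : 𝔾)⁻¹]
    simp [mul_assoc]
  rw [Finset.sum_congr rfl fun h _ => by rw [uSum_eq, uSum_eq, Finset.sum_mul_sum]]
  rw [Finset.sum_comm, Finset.sum_congr rfl fun u _ => Finset.sum_comm]
  simp only [key]
  split_ifs
  · have hv : ∀ v : upperU n F, uSum (ψ : 𝔾 → ℂ) (g * v) = uSum (ψ : 𝔾 → ℂ) g := fun v =>
      uSum_mul_right (CharTheory.IsIrrCharacter.isClassFunction ψ.2) v.2 g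
    rw [Finset.sum_comm]
    simp only [mul_assoc, ← Finset.sum_div, ← Finset.mul_sum]
    simp only [uSum_eq] at hv
    simp only [hv, Finset.sum_const, Finset.card_univ, nsmul_eq_mul, Nat.card_eq_fintype_card,
      uSum_eq]
    ring
  · simp

theorem uSum_one (χ : IrrCharacter 𝔾) (hχ : ¬ p ∣ Nat.card 𝔾 / charDegree (χ : 𝔾 → ℂ)) :
    uSum (χ : 𝔾 → ℂ) 1 = (χ : 𝔾 → ℂ) 1 := by
  classical
  haveI := Fintype.ofFinite (upperU n F)
  rw [uSum_eq, Fintype.sum_eq_single (1 : upperU n F)]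
  · simp
  · intro u hu
    rw [mul_one]
    refine irr_eq_zero_of_full χ hχ ?_
    obtain ⟨k, hk⟩ := IsPGroup.iff_orderOf.1 (isPGroup_upperU (n := n) (F := F) p) u
    rw [← Subgroup.orderOf_coe] at hk
    rcases k with _ | k
    · exact absurd (Subtype.ext (orderOf_eq_one_iff.1 (by simpa using hk))) hu
    · exact hk ▸ dvd_pow_self p k.succ_ne_zero

/-- Not all coset sums vanish modulo the prime. -/
theorem exists_uSum_notMem (hM : IsPModular p M) (χ : IrrCharacter 𝔾)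
    (hχ : ¬ p ∣ Nat.card 𝔾 / charDegree (χ : 𝔾 → ℂ)) :
    ∃ g, ¬ MemLocalIdeal M (uSum (χ : 𝔾 → ℂ) g) := by
  classical
  haveI := Fintype.ofFinite 𝔾
  by_contra hall
  push Not at hall
  set d := Nat.card 𝔾 / charDegree (χ : 𝔾 → ℂ) with hd
  set U := upperU n F with hU
  letI : MulAction (U × U) 𝔾 :=
    { smul := fun a h => (a.1 : 𝔾) * h * (a.2 : 𝔾)⁻¹
      one_smul := fun h => show (1 : 𝔾) * h * (1 : 𝔾)⁻¹ = h by simp
      mul_smul := fun a b h => by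
        show ((a.1 : 𝔾) * b.1) * h * ((a.2 : 𝔾) * b.2)⁻¹ =
          (a.1 : 𝔾) * ((b.1 : 𝔾) * h * (b.2 : 𝔾)⁻¹) * (a.2 : 𝔾)⁻¹
        group }
  have hcl := CharTheory.IsIrrCharacter.isClassFunction χ.2
  have hmem : ∀ h : 𝔾, ∀ a : MulAction.stabilizer (U × U) h, (a.1.2 : 𝔾) ∈ uInter h := by
    intro h a
    refine mem_uInter.2 ⟨a.1.2.2, ?_⟩
    have e : (a.1.1 : 𝔾) * h * (a.1.2 : 𝔾)⁻¹ = h := a.2
    have : h * (a.1.2 : 𝔾) * h⁻¹ = (a.1.1 : 𝔾) := by
      rw [mul_inv_eq_iff_eq_mul] at e ⊢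
      exact e.symm
    rw [this]
    exact a.1.1.2
  have hst : ∀ h : 𝔾, Nat.card (MulAction.stabilizer (U × U) h) = Nat.card (uInter h) := by
    intro h
    refine Nat.card_congr (Equiv.ofBijective (fun a => (⟨_, hmem h a⟩ : uInter h)) ⟨?_, ?_⟩)
    · intro a b hab
      have e2 : (a.1.2 : 𝔾) = (b.1.2 : 𝔾) :=
        congrArg (fun v : uInter h => (v : 𝔾)) hab
      have ea : (a.1.1 : 𝔾) * h * (a.1.2 : 𝔾)⁻¹ = h := a.2
      have eb : (b.1.1 : 𝔾) * h * (b.1.2 : 𝔾)⁻¹ = h := b.2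
      rw [← e2] at eb
      refine Subtype.ext (Prod.ext (Subtype.ext ?_) (Subtype.ext e2))
      exact mul_right_cancel (mul_right_cancel (ea.trans eb.symm))
    · intro v
      obtain ⟨h1, h2⟩ := mem_uInter.1 v.2
      refine ⟨⟨(⟨h * v.1 * h⁻¹, h2⟩, ⟨v.1, h1⟩), ?_⟩, rfl⟩
      show h * v.1 * h⁻¹ * h * (v.1)⁻¹ = h
      group
  obtain ⟨s, hs, he⟩ := sum_mem_card_smul (V := U × U)
    (fun h : 𝔾 => uSum (χ : 𝔾 → ℂ) h * ((d : ℂ) * uSum (χ : 𝔾 → ℂ) h⁻¹)) (MemLocalIdeal M)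
    memLocalIdeal_zero (fun a b => memLocalIdeal_add)
    (fun a h => by
      show uSum (χ : 𝔾 → ℂ) ((a.1 : 𝔾) * h * (a.2 : 𝔾)⁻¹) *
        ((d : ℂ) * uSum (χ : 𝔾 → ℂ) ((a.1 : 𝔾) * h * (a.2 : 𝔾)⁻¹)⁻¹) = _
      rw [_root_.mul_inv_rev, _root_.mul_inv_rev, inv_inv, uSum_mul_right hcl (inv_mem a.2.2),
        uSum_mul_left _ a.1.2, uSum_mul_left _ a.2.2, uSum_mul_right hcl (inv_mem a.1.2)])
    (fun h => by
      obtain ⟨w, hw, hwe⟩ := exists_uSum_eq (M := M) χ (cast_div_mul χ) h⁻¹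
      refine ⟨uSum (χ : 𝔾 → ℂ) h * w, memLocalIdeal_mul_right (hall h) hw, ?_⟩
      show uSum (χ : 𝔾 → ℂ) h * ((d : ℂ) * uSum (χ : 𝔾 → ℂ) h⁻¹) = _
      rw [hwe, card_uInter_inv, hst]
      ring)
  have h1 := sum_uSum_mul_uSum χ χ (1 : 𝔾)
  simp only [mul_one, if_true, uSum_one χ hχ] at h1
  have hsum : ∑ h : 𝔾, uSum (χ : 𝔾 → ℂ) h * ((d : ℂ) * uSum (χ : 𝔾 → ℂ) h⁻¹) =
      (d : ℂ) * ((Nat.card U : ℂ) * Nat.card 𝔾) := by
    simp only [mul_left_comm _ (d : ℂ), ← Finset.mul_sum]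
    rw [h1, mul_assoc (Nat.card U : ℂ),
      div_mul_cancel₀ _ (CharTheory.apply_one_ne_zero_of_isIrr χ.2)]
  rw [hsum, ← Subgroup.card_mul_index U, Nat.card_prod, Nat.cast_mul, Nat.cast_mul,
    show (d : ℂ) * ((Nat.card U : ℂ) * ((Nat.card U : ℂ) * (U.index : ℂ))) =
      ((Nat.card U : ℂ) * (Nat.card U : ℂ)) * ((d * U.index : ℕ) : ℂ) by push_cast; ring] at he
  have hU0 : ((Nat.card U : ℂ) * (Nat.card U : ℂ)) ≠ 0 :=
    mul_ne_zero (Nat.cast_ne_zero.2 Nat.card_pos.ne') (Nat.cast_ne_zero.2 Nat.card_pos.ne')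
  rw [← mul_left_cancel₀ hU0 he, memLocalIdeal_natCast_iff hM,
    (Fact.out : p.Prime).dvd_mul] at hs
  exact hs.elim hχ (not_dvd_index_upperU p)

theorem llMinor_conj {m₀ : 𝔾} (hm₀ : IsMono Fin.revPerm m₀) {t τ : 𝔾} (ht : IsMono 1 t)
    (hτ : IsMono 1 τ) (k : Fin (n + 1)) :
    ∃ c : F, c ≠ 0 ∧ ∀ u : 𝔾, llMinor ((t * m₀)⁻¹ * u * (τ * m₀)) k = c * urMinor u k := by
  refine ⟨(∏ i, m₀⁻¹ (bot k i) (Fin.rev (bot k i)) * t⁻¹ (Fin.rev (bot k i)) (Fin.rev (bot k i))) *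
    ∏ i, τ (Fin.rev (top k i)) (Fin.rev (top k i)) * m₀ (Fin.rev (top k i)) (top k i), ?_,
    fun u => ?_⟩
  · refine mul_ne_zero (Finset.prod_ne_zero_iff.2 fun i _ => mul_ne_zero ?_ ?_)
      (Finset.prod_ne_zero_iff.2 fun i _ => mul_ne_zero ?_ ?_)
    · simpa using hm₀.conj_coeff_ne_zero (bot k i)
    · simpa using ht.conj_coeff_ne_zero (Fin.rev (bot k i))
    · simpa using hτ.ne_zero (Fin.rev (top k i))
    · simpa using hm₀.ne_zero (top k i)
  · refine llMinor_scale_rev _ u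
      (fun a => m₀⁻¹ a (Fin.rev a) * t⁻¹ (Fin.rev a) (Fin.rev a))
      (fun b => τ (Fin.rev b) (Fin.rev b) * m₀ (Fin.rev b) b) (fun a b => ?_) k
    rw [show (t * m₀)⁻¹ * u * (τ * m₀) = m₀⁻¹ * (t⁻¹ * u * τ) * m₀ by group,
      hm₀.conj_apply hm₀, ht.conj_apply hτ]
    simp only [Fin.revPerm_apply, Equiv.Perm.coe_one, id_eq]
    ring

theorem end_cases {k : Fin (n + 1)} (h : (k : ℕ) * (n - k) = 0) : k = 0 ∨ k = Fin.last n := by
  rcases Nat.mul_eq_zero.1 h with h | h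
  · exact Or.inl (Fin.ext h)
  · exact Or.inr (Fin.ext (by simp only [Fin.val_last]; have := k.isLt; omega))

theorem urMinor_one_end {u : 𝔾} {k : Fin (n + 1)} (h : (k : ℕ) * (n - k) = 0) :
    urMinor u k = 1 := by
  rcases end_cases h with rfl | rfl
  · haveI : IsEmpty (Fin ((0 : Fin (n + 1)) : ℕ)) := ⟨fun i => by simpa using i.isLt⟩
    exact Matrix.det_isEmpty
  · have h1 : bot (Fin.last n) = (id : Fin n → Fin n) := funext fun i => Fin.ext (by simp [bot])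
    show ((u : Matrix (Fin n) (Fin n) F).submatrix (top (Fin.last n)) (bot (Fin.last n))).det = 1
    rw [h1]
    exact u.det_coe

theorem llMinor_end {g : 𝔾} {k : Fin (n + 1)} (h : (k : ℕ) * (n - k) = 0) : llMinor g k = 1 := by
  rcases end_cases h with rfl | rfl
  · exact llMinor_zero g
  · exact llMinor_last g

/-- The key congruence between two characters of defect zero. -/
theorem key_congruence (hM : IsPModular p M) (χ ψ : IrrCharacter 𝔾)
    (hχ : ¬ p ∣ Nat.card 𝔾 / charDegree (χ : 𝔾 → ℂ))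
    (hψ : ¬ p ∣ Nat.card 𝔾 / charDegree (ψ : 𝔾 → ℂ)) [Decidable (χ = ψ)]
    [Fintype {t : 𝔾 // IsMono 1 t}] (τ : {t : 𝔾 // IsMono 1 t}) :
    MemLocalIdeal M ((if χ = ψ then ((Nat.card 𝔾 / charDegree (ψ : 𝔾 → ℂ) : ℕ) : ℂ) *
        uSum (ψ : 𝔾 → ℂ) ((τ : 𝔾) * mono n F Fin.revPerm) else 0) -
      (Nat.card {u : upperU n F // ∀ k, urMinor (u : 𝔾) k = 1} : ℂ) *
        (∑ t : {t : 𝔾 // IsMono 1 t}, uSum (χ : 𝔾 → ℂ) ((t : 𝔾) * mono n F Fin.revPerm)) *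
        (∑ t : {t : 𝔾 // IsMono 1 t}, uSum (ψ : 𝔾 → ℂ) ((t : 𝔾) * mono n F Fin.revPerm))) := by
  classical
  haveI := Fintype.ofFinite 𝔾
  haveI := Fintype.ofFinite (upperU n F)
  haveI := Fintype.ofFinite (𝔾 ⧸ upperU n F)
  set U := upperU n F with hU
  set m₀ := mono n F Fin.revPerm with hm₀def
  have hm₀ : IsMono Fin.revPerm m₀ := isMono_mono _
  have hclχ := CharTheory.IsIrrCharacter.isClassFunction χ.2
  have hclψ := CharTheory.IsIrrCharacter.isClassFunction ψ.2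
  set g₀ : 𝔾 := (τ : 𝔾) * m₀ with hg₀
  let Φ : 𝔾 → ℂ := fun h => uSum (χ : 𝔾 → ℂ) h * uSum (ψ : 𝔾 → ℂ) (h⁻¹ * g₀)
  have hΦ : ∀ h : 𝔾, ∀ v ∈ U, Φ (h * v) = Φ h := fun h v hv => by
    simp only [Φ, _root_.mul_inv_rev, mul_assoc]
    rw [uSum_mul_right hclχ hv, uSum_mul_left _ (inv_mem hv)]
  have hΦout : ∀ h : 𝔾, Φ ((h : 𝔾 ⧸ U).out) = Φ h := fun h => by
    obtain ⟨v, hv⟩ := QuotientGroup.mk_out_eq_mul U h
    rw [hv]; exact hΦ h v v.2
  -- the exact identity on cosets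
  have hexact : ∑ x : 𝔾 ⧸ U, Φ x.out =
      if χ = ψ then ((Nat.card 𝔾 / charDegree (ψ : 𝔾 → ℂ) : ℕ) : ℂ) * uSum (ψ : 𝔾 → ℂ) g₀
      else 0 := by
    have hb : Function.Bijective (fun a : (𝔾 ⧸ U) × U => a.1.out * (a.2 : 𝔾)) := by
      constructor
      · rintro ⟨x, u⟩ ⟨y, v⟩ e
        have hxy : x = y := by
          have := congrArg (fun h : 𝔾 => (h : 𝔾 ⧸ U)) e
          simpa [QuotientGroup.mk_mul_of_mem _ u.2, QuotientGroup.mk_mul_of_mem _ v.2,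
            QuotientGroup.out_eq'] using this
        subst hxy
        exact Prod.ext rfl (Subtype.ext (mul_left_cancel e))
      · intro h
        obtain ⟨v, hv⟩ := QuotientGroup.mk_out_eq_mul U h
        exact ⟨((h : 𝔾 ⧸ U), v⁻¹), by simp [hv]⟩
    have h1 : ∑ h : 𝔾, Φ h = (Nat.card U : ℂ) * ∑ x : 𝔾 ⧸ U, Φ x.out := by
      rw [← (Equiv.ofBijective _ hb).sum_comp, Fintype.sum_prod_type, Finset.mul_sum]
      refine Finset.sum_congr rfl fun x _ => ?_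
      simp only [Equiv.ofBijective_apply, fun u : U => hΦ x.out u u.2, Finset.sum_const,
        Finset.card_univ, nsmul_eq_mul, Nat.card_eq_fintype_card]
    have h2 := sum_uSum_mul_uSum χ ψ g₀
    refine mul_left_cancel₀ (b := ∑ x : 𝔾 ⧸ U, Φ x.out)
      (Nat.cast_ne_zero.2 (Nat.card_pos (α := U)).ne' : (Nat.card U : ℂ) ≠ 0) (h1.symm.trans ?_)
    rw [h2]
    split_ifs
    · rw [mul_assoc, ← cast_div_mul ψ,
        mul_div_cancel_right₀ _ (CharTheory.apply_one_ne_zero_of_isIrr ψ.2)]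
    · simp
  -- the open cell
  have htU : ∀ {a : 𝔾}, IsMono 1 a → a ∈ borel n F := fun ha =>
    mem_borel.2 (isUp_of_isMono_one ha)
  let cell : U × {t : 𝔾 // IsMono 1 t} → 𝔾 ⧸ U := fun a => (((a.1 : 𝔾) * a.2 * m₀ : 𝔾) : 𝔾 ⧸ U)
  have hcell : Function.Injective cell := by
    rintro ⟨u, t⟩ ⟨u', t'⟩ e
    have e1 : ((u : 𝔾) * t * m₀)⁻¹ * ((u' : 𝔾) * t' * m₀) ∈ U := QuotientGroup.eq.1 e
    have hd : ∀ (a : {t : 𝔾 // IsMono 1 t}), IsMono 1 (m₀⁻¹ * (a : 𝔾) * m₀) := fun a => by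
      simpa using (hm₀.inv.mul a.2).mul hm₀
    have e2 : ((u : 𝔾) * m₀)⁻¹ * ((u' : 𝔾) * m₀) ∈ borel n F := by
      have : ((u : 𝔾) * m₀)⁻¹ * ((u' : 𝔾) * m₀) = (m₀⁻¹ * (t : 𝔾) * m₀) *
          (((u : 𝔾) * t * m₀)⁻¹ * ((u' : 𝔾) * t' * m₀)) * (m₀⁻¹ * (t' : 𝔾) * m₀)⁻¹ := by group
      rw [this]
      exact mul_mem (mul_mem (htU (hd t)) (upperU_le_borel e1)) (inv_mem (htU (hd t')))
    obtain ⟨-, hu⟩ := eq_of_mem_borel u.2 u'.2 hm₀ hm₀ e2
    obtain rfl : u = u' := Subtype.ext hu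
    refine Prod.ext rfl (Subtype.ext ?_)
    have e3 : (m₀⁻¹ * (t : 𝔾) * m₀)⁻¹ * (m₀⁻¹ * (t' : 𝔾) * m₀) ∈ U := by
      have : (m₀⁻¹ * (t : 𝔾) * m₀)⁻¹ * (m₀⁻¹ * (t' : 𝔾) * m₀) =
          ((u : 𝔾) * t * m₀)⁻¹ * ((u : 𝔾) * t' * m₀) := by group
      rw [this]; exact e1
    have e4 : IsMono 1 ((m₀⁻¹ * (t : 𝔾) * m₀)⁻¹ * (m₀⁻¹ * (t' : 𝔾) * m₀)) := by
      simpa using (hd t).inv.mul (hd t')
    have e5 : (m₀⁻¹ * (t : 𝔾) * m₀)⁻¹ * (m₀⁻¹ * (t' : 𝔾) * m₀) = 1 :=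
      Subtype.ext (Matrix.ext fun a b => by
        by_cases hab : a = b
        · subst hab
          rw [e3.2 a, Matrix.SpecialLinearGroup.coe_one, Matrix.one_apply_eq]
        · rw [e4 a b hab, Matrix.SpecialLinearGroup.coe_one, Matrix.one_apply_ne hab])
    simpa using inv_mul_eq_one.1 e5
  have hoff : ∀ x : 𝔾 ⧸ U, x ∉ Set.range cell → MemLocalIdeal M (Φ x.out) := by
    intro x hx
    refine memLocalIdeal_mul_right ?_ (memLocalRing_uSum ψ _)
    by_cases h0 : ∀ k : Fin (n + 1), llMinor x.out k ≠ 0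
    · obtain ⟨u, hu, t, ht, v, hv, e⟩ := exists_cell_of_llMinor_ne_zero hm₀ h0
      refine absurd ⟨(⟨u, hu⟩, ⟨t, ht⟩), ?_⟩ hx
      show ((u * t * m₀ : 𝔾) : 𝔾 ⧸ U) = x
      rw [← QuotientGroup.mk_mul_of_mem (u * t * m₀) hv, ← e, QuotientGroup.out_eq']
    · push Not at h0
      obtain ⟨k, hk⟩ := h0
      obtain ⟨v, hv, hv1, hv2⟩ := exists_conj_mem_of_llMinor_eq_zero hk
      exact memLocalIdeal_uSum hM χ hχ hv hv1 hv2
  set A : ℂ := ∑ t : {t : 𝔾 // IsMono 1 t}, uSum (χ : 𝔾 → ℂ) ((t : 𝔾) * m₀) with hA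
  set A' : ℂ := ∑ t : {t : 𝔾 // IsMono 1 t}, uSum (ψ : 𝔾 → ℂ) ((t : 𝔾) * m₀) with hA'
  set N₀ : ℕ := Nat.card {u : U // ∀ k, urMinor (u : 𝔾) k = 1} with hN₀
  have hinner : ∀ t : {t : 𝔾 // IsMono 1 t}, MemLocalIdeal M
      (∑ u : U, uSum (ψ : 𝔾 → ℂ) (((t : 𝔾) * m₀)⁻¹ * u * g₀) - (N₀ : ℂ) * A') := by
    intro t
    choose c hc hcu using fun k => llMinor_conj hm₀ t.2 τ.2 k
    let y : U → 𝔾 := fun u => ((t : 𝔾) * m₀)⁻¹ * u * g₀
    let δ : {t : 𝔾 // IsMono 1 t} → Fin (n + 1) → F := fun t' k =>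
      llMinor ((t' : 𝔾) * m₀) k / c k
    have hstep : MemLocalIdeal M (∑ u : U, uSum (ψ : 𝔾 → ℂ) (y u) -
        ∑ u : U, ∑ t' : {t : 𝔾 // IsMono 1 t}, if (∀ k, urMinor (u : 𝔾) k = δ t' k)
          then uSum (ψ : 𝔾 → ℂ) ((t' : 𝔾) * m₀) else 0) := by
      rw [← Finset.sum_sub_distrib]
      refine memLocalIdeal_sum fun u _ => ?_
      have hiff : ∀ t' : {t : 𝔾 // IsMono 1 t}, (∀ k, urMinor (u : 𝔾) k = δ t' k) ↔
          ∀ k, llMinor ((t' : 𝔾) * m₀) k = llMinor (y u) k := fun t' => forall_congr' fun k => by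
        simp only [y, δ, g₀, hcu, eq_div_iff (hc k)]
        rw [mul_comm]
        exact eq_comm
      by_cases h0 : ∀ k : Fin (n + 1), llMinor (y u) k ≠ 0
      · obtain ⟨u₁, hu₁, t₁, ht₁, v₁, hv₁, e⟩ := exists_cell_of_llMinor_ne_zero hm₀ h0
        have hmin : ∀ k, llMinor (t₁ * m₀) k = llMinor (y u) k := fun k => by
          rw [e, llMinor_mul_right hv₁, mul_assoc u₁, llMinor_mul_left hu₁]
        rw [Finset.sum_eq_single (⟨t₁, ht₁⟩ : {t : 𝔾 // IsMono 1 t}),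
          if_pos ((hiff _).2 hmin)]
        · rw [e, uSum_mul_right hclψ hv₁, mul_assoc u₁, uSum_mul_left _ hu₁, sub_self]
          exact memLocalIdeal_zero
        · intro t' _ ht'
          rw [if_neg]
          intro hh
          exact ht' (Subtype.ext (torus_eq_of_llMinor hm₀ t'.2 ht₁
            fun k => ((hiff t').1 hh k).trans (hmin k).symm))
        · exact fun h => absurd (Finset.mem_univ _) h
      · push Not at h0
        obtain ⟨k, hk⟩ := h0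
        obtain ⟨v, hv, hv1, hv2⟩ := exists_conj_mem_of_llMinor_eq_zero hk
        rw [Finset.sum_eq_zero, sub_zero]
        · exact memLocalIdeal_uSum hM ψ hψ hv hv1 hv2
        · intro t' _
          rw [if_neg]
          intro hh
          have := (hiff t').1 hh k
          rw [hk, llMinor_diag_mul t'.2, mul_eq_zero] at this
          rcases this with h | h
          · exact Finset.prod_ne_zero_iff.2 (fun i _ => t'.2.ne_zero (bot k i)) h
          · exact llMinor_mono_ne_zero hm₀ k h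
    have hN : ∀ t' : {t : 𝔾 // IsMono 1 t}, MemLocalIdeal M
        ((Nat.card {u : U // ∀ k, urMinor (u : 𝔾) k = δ t' k} : ℂ) - (N₀ : ℂ)) := by
      intro t'
      have hcong := card_minor_fibre_eq (n := n) (δ t') (fun _ => (1 : F)) fun k hk => by
        have hck := hcu k 1
        rw [llMinor_end hk, urMinor_one_end hk, mul_one] at hck
        simp only [δ, llMinor_end hk, ← hck, div_one]
      have hmod := (CharP.natCast_eq_natCast F p).1 hcong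
      have hdvd := Nat.modEq_iff_dvd.1 hmod.symm
      have := (memLocalIdeal_intCast_iff hM _).2 hdvd
      push_cast at this
      exact this
    have hswap : (∑ u : U, ∑ t' : {t : 𝔾 // IsMono 1 t}, if (∀ k, urMinor (u : 𝔾) k = δ t' k)
        then uSum (ψ : 𝔾 → ℂ) ((t' : 𝔾) * m₀) else 0) =
        ∑ t' : {t : 𝔾 // IsMono 1 t}, (Nat.card {u : U // ∀ k, urMinor (u : 𝔾) k = δ t' k} : ℂ) *
          uSum (ψ : 𝔾 → ℂ) ((t' : 𝔾) * m₀) := by
      rw [Finset.sum_comm]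
      refine Finset.sum_congr rfl fun t' _ => ?_
      rw [← Finset.sum_filter, Finset.sum_const, nsmul_eq_mul, Nat.card_eq_fintype_card,
        Fintype.card_subtype]
    rw [hswap] at hstep
    have h2 : MemLocalIdeal M ((∑ t' : {t : 𝔾 // IsMono 1 t},
        (Nat.card {u : U // ∀ k, urMinor (u : 𝔾) k = δ t' k} : ℂ) *
          uSum (ψ : 𝔾 → ℂ) ((t' : 𝔾) * m₀)) - (N₀ : ℂ) * A') := by
      rw [hA', Finset.mul_sum, ← Finset.sum_sub_distrib]
      refine memLocalIdeal_sum fun t' _ => ?_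
      rw [← sub_mul]
      exact memLocalIdeal_mul_right (hN t') (memLocalRing_uSum ψ _)
    simpa [y] using memLocalIdeal_add hstep h2
  have hmain : MemLocalIdeal M (∑ x : 𝔾 ⧸ U, Φ x.out - (N₀ : ℂ) * A * A') := by
    have hsplit := Finset.sum_sdiff (f := fun x : 𝔾 ⧸ U => Φ x.out)
      (Finset.subset_univ (Finset.univ.map ⟨cell, hcell⟩))
    rw [← hsplit, Finset.sum_map]
    have h1 : MemLocalIdeal M (∑ x ∈ Finset.univ \ Finset.univ.map ⟨cell, hcell⟩, Φ x.out) :=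
      memLocalIdeal_sum fun x hx => hoff x fun ⟨a, ha⟩ => (Finset.mem_sdiff.1 hx).2
        (Finset.mem_map.2 ⟨a, Finset.mem_univ _, ha⟩)
    have h2 : MemLocalIdeal M
        ((∑ a : U × {t : 𝔾 // IsMono 1 t}, Φ (cell a).out) - (N₀ : ℂ) * A * A') := by
      have e : (∑ a : U × {t : 𝔾 // IsMono 1 t}, Φ (cell a).out) =
          ∑ t : {t : 𝔾 // IsMono 1 t}, uSum (χ : 𝔾 → ℂ) ((t : 𝔾) * m₀) *
            ∑ u : U, uSum (ψ : 𝔾 → ℂ) (((t : 𝔾) * m₀)⁻¹ * u * g₀) := by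
        rw [Fintype.sum_prod_type, Finset.sum_comm]
        refine Finset.sum_congr rfl fun t _ => ?_
        rw [Finset.mul_sum]
        refine Fintype.sum_equiv (Equiv.inv U) _ _ fun u => ?_
        rw [show Φ (cell (u, t)).out = Φ ((u : 𝔾) * t * m₀) from hΦout _]
        simp only [Φ, Equiv.inv_apply, InvMemClass.coe_inv, mul_assoc (u : 𝔾), _root_.mul_inv_rev]
        rw [uSum_mul_left _ u.2]
      rw [e, hA, mul_comm (N₀ : ℂ) (∑ _t, _), mul_assoc, Finset.sum_mul, ← Finset.sum_sub_distrib]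
      refine memLocalIdeal_sum fun t _ => ?_
      rw [← mul_sub]
      exact memLocalIdeal_mul_left (memLocalRing_uSum χ _) (hinner t)
    have h3 := memLocalIdeal_add h1 h2
    simp only [Function.Embedding.coeFn_mk]
    convert h3 using 1
    ring
  rwa [hexact] at hmain

/-- There is at most one irreducible character of defect zero. -/
theorem eq_of_full (hM : IsPModular p M) (χ ψ : IrrCharacter 𝔾)
    (hχ : ¬ p ∣ Nat.card 𝔾 / charDegree (χ : 𝔾 → ℂ))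
    (hψ : ¬ p ∣ Nat.card 𝔾 / charDegree (ψ : 𝔾 → ℂ)) : χ = ψ := by
  classical
  haveI := Fintype.ofFinite {t : 𝔾 // IsMono 1 t}
  set m₀ := mono n F Fin.revPerm with hm₀def
  have hm₀ : IsMono Fin.revPerm m₀ := isMono_mono _
  set N₀ : ℂ := (Nat.card {u : upperU n F // ∀ k, urMinor (u : 𝔾) k = 1} : ℂ)
  set A : IrrCharacter 𝔾 → ℂ := fun φ =>
    ∑ t : {t : 𝔾 // IsMono 1 t}, uSum (φ : 𝔾 → ℂ) ((t : 𝔾) * m₀) with hA
  have hA' : ∀ φ : IrrCharacter 𝔾, MemLocalRing M (A φ) := fun φ =>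
    memLocalRing_sum fun t _ => memLocalRing_uSum φ _
  have unit : ∀ φ : IrrCharacter 𝔾, ¬ p ∣ Nat.card 𝔾 / charDegree (φ : 𝔾 → ℂ) →
      ¬ MemLocalIdeal M (N₀ * A φ * A φ) := by
    intro φ hφ hmem
    obtain ⟨g, hg⟩ := exists_uSum_notMem (M := M) hM φ hφ
    apply hg
    by_cases h0 : ∀ k : Fin (n + 1), llMinor g k ≠ 0
    · obtain ⟨u, hu, t, ht, v, hv, e⟩ := exists_cell_of_llMinor_ne_zero hm₀ h0
      rw [e, uSum_mul_right (CharTheory.IsIrrCharacter.isClassFunction φ.2) hv, mul_assoc,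
        uSum_mul_left _ hu]
      have hk := key_congruence hM φ φ hφ hφ ⟨t, ht⟩
      rw [if_pos rfl] at hk
      have h1 := memLocalIdeal_add hk hmem
      simp only [hA, N₀, ← hm₀def, sub_add_cancel] at h1
      exact ((memLocalIdeal_mul_iff (memLocalRing_natCast _) (memLocalRing_uSum φ _)).1
        h1).resolve_left fun h' => hφ ((memLocalIdeal_natCast_iff hM _).1 h')
    · push Not at h0
      obtain ⟨k, hk⟩ := h0
      obtain ⟨w, hw, hw1, hw2⟩ := exists_conj_mem_of_llMinor_eq_zero hk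
      exact memLocalIdeal_uSum hM φ hφ hw hw1 hw2
  by_contra hne
  have h1 := unit χ hχ
  have h2 := unit ψ hψ
  rw [memLocalIdeal_mul_iff (memLocalRing_mul (memLocalRing_natCast _) (hA' χ)) (hA' χ),
    memLocalIdeal_mul_iff (memLocalRing_natCast _) (hA' χ)] at h1
  rw [memLocalIdeal_mul_iff (memLocalRing_mul (memLocalRing_natCast _) (hA' ψ)) (hA' ψ),
    memLocalIdeal_mul_iff (memLocalRing_natCast _) (hA' ψ)] at h2
  have hk := key_congruence hM χ ψ hχ hψ ⟨1, isMono_one⟩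
  rw [if_neg hne, zero_sub] at hk
  have hk' := memLocalIdeal_neg hk
  rw [neg_neg, memLocalIdeal_mul_iff (memLocalRing_mul (memLocalRing_natCast _) (hA' χ)) (hA' ψ),
    memLocalIdeal_mul_iff (memLocalRing_natCast _) (hA' χ)] at hk'
  tauto

end CfsgLib.ClassK.SLn
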