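import Mathlib

/-!
# Radical `p`-subgroups of the special linear group centralize no noncentral `p`-regular element
-/

set_option autoImplicit false
set_option linter.style.haveILetI false
set_option linter.unusedSectionVars false

open Matrix Module

namespace CfsgLib.ClassK.SLn

section Rep

variable {D : Type*} [Group D] {p : ℕ} [hp : Fact p.Prime]
variable {F : Type*} [Field F] [Finite F] [CharP F p]
variable {V : Type*} [AddCommGroup V] [Module F V] [FiniteDimensional F V]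

/-- A `p`-group fixes a nonzero vector in characteristic `p`. -/
theorem exists_fixed_vector (hD : IsPGroup p D) (ρ : Representation F D V) (hV : Nontrivial V) :
    ∃ v : V, v ≠ 0 ∧ ∀ d, ρ d v = v := by
  haveI : Finite V := Module.finite_of_finite F
  letI : MulAction D V :=
    { smul := fun d v => ρ d v
      one_smul := fun v => show ρ 1 v = v by simp
      mul_smul := fun a b v => show ρ (a * b) v = ρ a (ρ b v) by simp }
  have hdvd : p ∣ Nat.card V := by
    haveI := Fintype.ofFinite F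
    obtain ⟨f, -, hf⟩ := FiniteField.card F p
    rw [Module.natCard_eq_pow_finrank (K := F), Nat.card_eq_fintype_card, hf, ← pow_mul]
    exact dvd_pow_self p (Nat.mul_ne_zero f.pos.ne' Module.finrank_pos.ne')
  obtain ⟨v, hv, hne⟩ := hD.exists_fixed_point_of_prime_dvd_card_of_fixed_point V hdvd (a := (0 : V))
    (fun d => show ρ d 0 = 0 by simp)
  exact ⟨v, hne.symm, hv⟩

/-- The span of the displacements of a submodule. -/
def dispSub (ρ : Representation F D V) (U : Submodule F V) : Submodule F V :=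
  Submodule.span F {x | ∃ d, ∃ u ∈ U, ρ d u - u = x}

theorem dispSub_le (ρ : Representation F D V) {U : Submodule F V}
    (hU : ∀ d, ∀ u ∈ U, ρ d u ∈ U) : dispSub ρ U ≤ U :=
  Submodule.span_le.2 fun _ ⟨d, u, hu, e⟩ => e ▸ sub_mem (hU d u hu) hu

theorem dispSub_invariant (ρ : Representation F D V) {U : Submodule F V}
    (hU : ∀ d, ∀ u ∈ U, ρ d u ∈ U) (d : D) : ∀ x ∈ dispSub ρ U, ρ d x ∈ dispSub ρ U := by
  show dispSub ρ U ≤ (dispSub ρ U).comap (ρ d)
  refine Submodule.span_le.2 ?_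
  rintro _ ⟨c, u, hu, rfl⟩
  refine Submodule.subset_span ⟨d * c * d⁻¹, ρ d u, hU d u hu, ?_⟩
  simp [← Module.End.mul_apply, ← map_mul]

theorem dispSub_lt (hD : IsPGroup p D) (ρ : Representation F D V) {U : Submodule F V}
    (hU : ∀ d, ∀ u ∈ U, ρ d u ∈ U) (hne : U ≠ ⊥) : dispSub ρ U < U := by
  refine lt_of_le_of_ne (dispSub_le ρ hU) fun e => ?_
  let S : Subrepresentation ρ := ⟨U, hU⟩
  haveI : Nontrivial U := Submodule.nontrivial_iff_ne_bot.2 hne
  haveI : Nontrivial (Dual F U) := by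
    obtain ⟨u, hu⟩ := exists_ne (0 : U)
    obtain ⟨f, hf, -⟩ := Submodule.exists_le_ker_of_notMem
      (show u ∉ (⊥ : Submodule F U) from fun h => hu ((Submodule.mem_bot F).1 h))
    exact ⟨⟨f, 0, fun h => hf (by rw [h]; rfl)⟩⟩
  obtain ⟨f, hf0, hf⟩ := exists_fixed_vector hD S.toRepresentation.dual (inferInstance)
  refine hf0 (LinearMap.ext fun u => ?_)
  have key : ∀ x (hx : x ∈ dispSub ρ U), f ⟨x, dispSub_le ρ hU hx⟩ = 0 := by
    intro x hx
    have : dispSub ρ U ≤ (LinearMap.ker f).map U.subtype := by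
      refine Submodule.span_le.2 ?_
      rintro _ ⟨d, w, hw, rfl⟩
      refine ⟨⟨ρ d w - w, sub_mem (hU d w hw) hw⟩, LinearMap.mem_ker.2 ?_, rfl⟩
      have h1 := LinearMap.congr_fun (hf d⁻¹) ⟨w, hw⟩
      rw [Representation.dual_apply, inv_inv] at h1
      change f (S.toRepresentation d ⟨w, hw⟩) = f ⟨w, hw⟩ at h1
      rw [← sub_eq_zero, ← map_sub] at h1
      exact h1
    obtain ⟨z, hz, hzx⟩ := this hx
    have hzx' : z = (⟨x, dispSub_le ρ hU hx⟩ : U) := Subtype.ext hzx
    rw [← hzx']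
    exact hz
  have hu : (u : V) ∈ dispSub ρ U := by rw [e]; exact u.2
  exact key u hu

end Rep

variable {n : ℕ} {F : Type*} [Field F] [Finite F] {p : ℕ} [hp : Fact p.Prime] [CharP F p]

local notation "𝔾" => SpecialLinearGroup (Fin n) F

/-- The natural representation of a subgroup. -/
noncomputable def natRep (D : Subgroup (SpecialLinearGroup (Fin n) F)) :
    Representation F D (Fin n → F) where
  toFun d := Matrix.mulVecLin ((d : SpecialLinearGroup (Fin n) F) : Matrix (Fin n) (Fin n) F)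
  map_one' := LinearMap.ext fun v => by simp
  map_mul' a b := LinearMap.ext fun v => by simp [Matrix.mulVec_mulVec]

theorem natRep_apply (D : Subgroup 𝔾) (d : D) (v : Fin n → F) :
    natRep D d v = ((d : 𝔾) : Matrix (Fin n) (Fin n) F) *ᵥ v := rfl

theorem mulVec_mul_assoc (a b : 𝔾) (v : Fin n → F) :
    ((a * b : 𝔾) : Matrix (Fin n) (Fin n) F) *ᵥ v =
      (a : Matrix (Fin n) (Fin n) F) *ᵥ ((b : Matrix (Fin n) (Fin n) F) *ᵥ v) := by
  rw [Matrix.SpecialLinearGroup.coe_mul, Matrix.mulVec_mulVec]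

theorem sl_ext_mulVec {a b : 𝔾} (h : ∀ v, (a : Matrix (Fin n) (Fin n) F) *ᵥ v =
    (b : Matrix (Fin n) (Fin n) F) *ᵥ v) : a = b :=
  Subtype.ext (Matrix.ext_iff_mulVec.2 h)

/-- The transvection group of a subspace pair. -/
noncomputable def transGroup (X W : Submodule F (Fin n → F)) (h : X ≤ W) :
    Subgroup (SpecialLinearGroup (Fin n) F) where
  carrier := {a | (∀ v, (a : Matrix (Fin n) (Fin n) F) *ᵥ v - v ∈ X) ∧
    ∀ v ∈ W, (a : Matrix (Fin n) (Fin n) F) *ᵥ v = v}
  one_mem' := ⟨fun v => by simp, fun v _ => by simp⟩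
  mul_mem' := fun {a b} ha hb => ⟨fun v => by
      rw [mulVec_mul_assoc, ← sub_add_sub_cancel _ ((b : Matrix (Fin n) (Fin n) F) *ᵥ v) v]
      exact add_mem (ha.1 _) (hb.1 v),
    fun v hv => by rw [mulVec_mul_assoc, hb.2 v hv, ha.2 v hv]⟩
  inv_mem' := fun {a} ha => by
    have hfix : ∀ v ∈ W, ((a⁻¹ : 𝔾) : Matrix (Fin n) (Fin n) F) *ᵥ v = v := fun v hv => by
      conv_lhs => rw [← ha.2 v hv]
      rw [← mulVec_mul_assoc, inv_mul_cancel, Matrix.SpecialLinearGroup.coe_one, one_mulVec]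
    refine ⟨fun v => ?_, hfix⟩
    have h1 := hfix _ (h (ha.1 v))
    rw [mulVec_sub, ← mulVec_mul_assoc, inv_mul_cancel, Matrix.SpecialLinearGroup.coe_one,
      one_mulVec] at h1
    have : ((a⁻¹ : 𝔾) : Matrix (Fin n) (Fin n) F) *ᵥ v - v =
        -((a : Matrix (Fin n) (Fin n) F) *ᵥ v - v) := by
      rw [← h1]; abel
    rw [this]
    exact neg_mem (ha.1 v)

theorem mem_center_of_scalar {z : 𝔾} {r : F}
    (h : (z : Matrix (Fin n) (Fin n) F) = Matrix.scalar (Fin n) r) :
    z ∈ Subgroup.center 𝔾 :=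
  Subgroup.mem_center_iff.2 fun g => Subtype.ext (by
    rw [Matrix.SpecialLinearGroup.coe_mul, Matrix.SpecialLinearGroup.coe_mul, h]
    exact ((Matrix.scalar_commute r (fun r' => mul_comm r r')
      (g : Matrix (Fin n) (Fin n) F)).eq).symm)

theorem isPGroup_transGroup {X W : Submodule F (Fin n → F)} (h : X ≤ W) :
    IsPGroup p (transGroup X W h) := by
  intro a
  refine ⟨1, Subtype.ext (sl_ext_mulVec fun v => ?_)⟩
  have key : ∀ k : ℕ, (((a : 𝔾) ^ k : 𝔾) : Matrix (Fin n) (Fin n) F) *ᵥ v =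
      v + k • (((a : 𝔾) : Matrix (Fin n) (Fin n) F) *ᵥ v - v) := by
    intro k
    induction k with
    | zero => simp
    | succ k ih =>
      rw [pow_succ', mulVec_mul_assoc, ih, mulVec_add, mulVec_smul, a.2.2 _ (h (a.2.1 v)),
        succ_nsmul]
      abel
  rw [pow_one, Subgroup.coe_pow, key, Subgroup.coe_one, Matrix.SpecialLinearGroup.coe_one,
    one_mulVec, ← Nat.cast_smul_eq_nsmul F, CharP.cast_eq_zero F p, zero_smul, add_zero]

/-- The main lemma: a nontrivial radical `p`-subgroup centralizes only central `p`-regular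
elements. -/
theorem mem_center_of_radical (D : Subgroup 𝔾) (hD : IsPGroup p D) (hne : D ≠ ⊥)
    {y : 𝔾} (hy : ¬ p ∣ orderOf y) (hDy : ∀ d ∈ D, y * d = d * y)
    (hrad : ∀ A : Subgroup 𝔾, IsPGroup p A →
      (∀ m ∈ Subgroup.normalizer (D : Set 𝔾), ∀ a ∈ A, m * a * m⁻¹ ∈ A) →
      A ≤ Subgroup.normalizer (D : Set 𝔾) → A ≤ D) :
    y ∈ Subgroup.center 𝔾 := by
  classical
  set ρ := natRep D with hρ
  have htop : ∀ d, ∀ u ∈ (⊤ : Submodule F (Fin n → F)), ρ d u ∈ (⊤ : Submodule F (Fin n → F)) :=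
    fun _ _ _ => trivial
  set W := dispSub ρ ⊤ with hW
  have hWinv := dispSub_invariant ρ htop
  obtain ⟨⟨d₀, hd₀⟩, hd₀ne⟩ := Subgroup.ne_bot_iff_exists_ne_one.1 hne
  have hd₀1 : d₀ ≠ 1 := fun e => hd₀ne (Subtype.ext e)
  have hWbot : W ≠ ⊥ := by
    intro e
    refine hd₀1 (sl_ext_mulVec fun v => ?_)
    have : ρ ⟨d₀, hd₀⟩ v - v ∈ W := Submodule.subset_span ⟨_, v, trivial, rfl⟩
    rw [e, Submodule.mem_bot, sub_eq_zero] at this
    simpa [hρ, natRep_apply] using this
  have hVnt : (⊤ : Submodule F (Fin n → F)) ≠ ⊥ := fun e => hWbot (le_bot_iff.1 (e ▸ le_top))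
  have hWlt : W < ⊤ := dispSub_lt hD ρ htop hVnt
  let C : Submodule F (Fin n → F) := ⨅ d : D, LinearMap.ker (ρ d - 1)
  have hC : ∀ v, v ∈ C ↔ ∀ d, ρ d v = v := fun v => by
    simp [C, Submodule.mem_iInf, sub_eq_zero]
  set X := C ⊓ W with hXdef
  obtain ⟨v₀, hv₀, hv₀X⟩ : ∃ v₀, v₀ ≠ 0 ∧ v₀ ∈ X := by
    haveI : Nontrivial W := Submodule.nontrivial_iff_ne_bot.2 hWbot
    obtain ⟨v, hv, hfix⟩ := exists_fixed_vector hD
      (Subrepresentation.toRepresentation ⟨W, hWinv⟩) (inferInstance)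
    refine ⟨v.1, fun e => hv (Subtype.ext e), (hC _).2 fun d => ?_, v.2⟩
    exact congrArg Subtype.val (hfix d)
  set A := transGroup X W inf_le_right with hA
  have hAcomm : ∀ a ∈ A, ∀ d ∈ D, d * a = a * d := by
    intro a ha d hd
    refine sl_ext_mulVec fun v => ?_
    have h1 := (hC _).1 (ha.1 v).1 ⟨d, hd⟩
    rw [natRep_apply, mulVec_sub] at h1
    have h2 := ha.2 _ (Submodule.subset_span ⟨⟨d, hd⟩, v, trivial, rfl⟩ : ρ ⟨d, hd⟩ v - v ∈ W)
    rw [hρ, natRep_apply, mulVec_sub] at h2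
    rw [mulVec_mul_assoc, mulVec_mul_assoc]
    linear_combination (norm := module) h1 - h2
  have hAN : A ≤ Subgroup.normalizer (D : Set 𝔾) := by
    refine le_trans (fun a ha => Subgroup.mem_centralizer_iff.2 fun d hd => hAcomm a ha d hd) ?_
    intro a ha
    rw [Subgroup.mem_centralizer_iff] at ha
    rw [Subgroup.mem_normalizer_iff]
    intro h
    constructor
    · intro hh
      have := ha h hh
      rwa [← this, mul_inv_cancel_right]
    · intro hh
      have := ha _ hh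
      rw [inv_mul_cancel_right] at this
      have e : h = a * h * a⁻¹ := mul_left_cancel this
      rw [e]; exact hh
  have hNinv : ∀ m ∈ Subgroup.normalizer (D : Set 𝔾),
      (∀ v ∈ W, (m : Matrix (Fin n) (Fin n) F) *ᵥ v ∈ W) ∧
      ∀ v ∈ C, (m : Matrix (Fin n) (Fin n) F) *ᵥ v ∈ C := by
    intro m hm
    rw [Subgroup.mem_normalizer_iff] at hm
    constructor
    · show W ≤ W.comap (Matrix.mulVecLin (m : Matrix (Fin n) (Fin n) F))
      refine Submodule.span_le.2 ?_
      rintro _ ⟨d, u, -, rfl⟩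
      refine Submodule.subset_span ⟨⟨m * d * m⁻¹, (hm d).1 d.2⟩,
        (m : Matrix (Fin n) (Fin n) F) *ᵥ u, trivial, ?_⟩
      simp only [hρ, natRep_apply, mulVecLin_apply, mulVec_sub]
      rw [← mulVec_mul_assoc, ← mulVec_mul_assoc, inv_mul_cancel_right]
    · intro v hv
      rw [hC] at hv ⊢
      intro d
      have hmem : m⁻¹ * (d : 𝔾) * m ∈ D := (hm _).2 (by
        have : m * (m⁻¹ * (d : 𝔾) * m) * m⁻¹ = d := by group
        rw [this]; exact d.2)
      have h1 := hv ⟨_, hmem⟩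
      rw [hρ, natRep_apply] at h1 ⊢
      conv_rhs => rw [← h1]
      rw [← mulVec_mul_assoc, ← mulVec_mul_assoc,
        show m * (m⁻¹ * (d : 𝔾) * m) = (d : 𝔾) * m by group]
  have hAD : A ≤ D := hrad A (isPGroup_transGroup _) (fun m hm a ha => by
    refine ⟨fun v => ?_, fun v hv => ?_⟩
    · have h0 := ha.1 (((m⁻¹ : 𝔾) : Matrix (Fin n) (Fin n) F) *ᵥ v)
      have e : ((m * a * m⁻¹ : 𝔾) : Matrix (Fin n) (Fin n) F) *ᵥ v - v =
          (m : Matrix (Fin n) (Fin n) F) *ᵥ ((a : Matrix (Fin n) (Fin n) F) *ᵥ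
            (((m⁻¹ : 𝔾) : Matrix (Fin n) (Fin n) F) *ᵥ v) -
            ((m⁻¹ : 𝔾) : Matrix (Fin n) (Fin n) F) *ᵥ v) := by
        rw [mulVec_sub, ← mulVec_mul_assoc, ← mulVec_mul_assoc, ← mulVec_mul_assoc, mul_inv_cancel,
          Matrix.SpecialLinearGroup.coe_one, one_mulVec, mul_assoc]
      rw [e]
      exact ⟨(hNinv m hm).2 _ h0.1, (hNinv m hm).1 _ h0.2⟩
    · rw [mulVec_mul_assoc, mulVec_mul_assoc, ha.2 _ ((hNinv m⁻¹ (inv_mem hm)).1 v hv),
        ← mulVec_mul_assoc, mul_inv_cancel, Matrix.SpecialLinearGroup.coe_one, one_mulVec]) hAN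
  -- transvections
  obtain ⟨x₀, -, hx₀⟩ := SetLike.exists_of_lt hWlt
  obtain ⟨f₀, hf₀, hf₀W⟩ := Submodule.exists_le_ker_of_notMem hx₀
  have htrans : ∀ v ∈ X, ∀ f : (Fin n → F) →ₗ[F] F, W ≤ LinearMap.ker f → ∀ x,
      f x • ((y : Matrix (Fin n) (Fin n) F) *ᵥ v) =
        f ((y : Matrix (Fin n) (Fin n) F) *ᵥ x) • v := by
    intro v hv f hf x
    have hfv : f v = 0 := hf hv.2
    set φ : Fin n → F := fun i => f (Pi.single i 1) with hφ
    have hdot : ∀ z, φ ⬝ᵥ z = f z := fun z => by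
      conv_rhs => rw [pi_eq_sum_univ z]
      rw [map_sum]
      simp only [dotProduct, map_smul, smul_eq_mul, hφ]
      refine Finset.sum_congr rfl fun i _ => ?_
      rw [mul_comm]
      congr 2
      funext j
      simp [Pi.single_apply, eq_comm]
    let a : 𝔾 := ⟨1 + vecMulVec v φ, by
      rw [vecMulVec_eq (ι := Unit), det_one_add_replicateCol_mul_replicateRow, hdot, hfv, add_zero]⟩
    have haz : ∀ z, (a : Matrix (Fin n) (Fin n) F) *ᵥ z = z + f z • v := fun z => by
      show (1 + vecMulVec v φ) *ᵥ z = _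
      rw [add_mulVec, one_mulVec, vecMulVec_mulVec, hdot]
      simp
    have haA : a ∈ A := ⟨fun z => by rw [haz, add_sub_cancel_left]; exact X.smul_mem _ hv,
      fun z hz => by rw [haz, show f z = 0 from hf hz, zero_smul, add_zero]⟩
    have hcomm := congrArg (fun g : 𝔾 => (g : Matrix (Fin n) (Fin n) F) *ᵥ x)
      (hDy a (hAD haA))
    simp only [mulVec_mul_assoc, haz, mulVec_add, mulVec_smul] at hcomm
    exact add_left_cancel hcomm
  set Y := Matrix.mulVecLin (y : Matrix (Fin n) (Fin n) F) with hY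
  set c : F := (f₀ x₀)⁻¹ * f₀ (Y x₀) with hc
  have hlam : ∀ v ∈ X, Y v = c • v := fun v hv => by
    have := htrans v hv f₀ hf₀W x₀
    rw [hc, mul_smul]
    show _ = (f₀ x₀)⁻¹ • (f₀ ((y : Matrix (Fin n) (Fin n) F) *ᵥ x₀) • v)
    rw [← this, smul_smul, inv_mul_cancel₀ hf₀, one_smul]
    rfl
  set N : Matrix (Fin n) (Fin n) F := (y : Matrix (Fin n) (Fin n) F) - Matrix.scalar (Fin n) c
    with hN
  have hNv : ∀ v, N *ᵥ v = (y : Matrix (Fin n) (Fin n) F) *ᵥ v - c • v := fun v => by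
    rw [hN, sub_mulVec]
    congr 1
    funext i
    simp [Matrix.scalar_apply, mulVec_diagonal]
  have hNW : ∀ v, N *ᵥ v ∈ W := by
    intro v
    by_contra hnot
    obtain ⟨f, hf, hfW⟩ := Submodule.exists_le_ker_of_notMem hnot
    refine hf ?_
    have h1 := htrans v₀ hv₀X f hfW v
    rw [show (y : Matrix (Fin n) (Fin n) F) *ᵥ v₀ = c • v₀ from hlam v₀ hv₀X, smul_smul] at h1
    have h2 := smul_left_injective F hv₀ h1
    rw [hNv, map_sub, map_smul, smul_eq_mul, ← h2, mul_comm c, sub_self]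
  let Ws : ℕ → Submodule F (Fin n → F) := fun j => (dispSub ρ)^[j] ⊤
  have hWs : ∀ j, (∀ d, ∀ u ∈ Ws j, ρ d u ∈ Ws j) := by
    intro j
    induction j with
    | zero => exact htop
    | succ j ih =>
      simp only [Ws, Function.iterate_succ_apply']
      exact dispSub_invariant ρ ih
  have hNWs : ∀ j, ∀ v ∈ Ws j, N *ᵥ v ∈ Ws (j + 1) := by
    intro j
    induction j with
    | zero => exact fun v _ => by simpa [Ws] using hNW v
    | succ j ih =>
      simp only [Ws, Function.iterate_succ_apply'] at ih ⊢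
      show dispSub ρ _ ≤ (dispSub ρ _).comap (Matrix.mulVecLin N)
      refine Submodule.span_le.2 ?_
      rintro _ ⟨d, u, hu, rfl⟩
      refine Submodule.subset_span ⟨d, N *ᵥ u, ih u hu, ?_⟩
      simp only [hρ, natRep_apply, mulVecLin_apply, mulVec_sub]
      congr 1
      simp only [hNv, mulVec_sub, mulVec_smul]
      rw [← mulVec_mul_assoc, ← mulVec_mul_assoc, hDy d d.2]
  have hdim : ∀ j, Module.finrank F (Ws j) ≤ n - j := by
    intro j
    induction j with
    | zero => exact (Submodule.finrank_le _).trans (by rw [Module.finrank_fin_fun, Nat.sub_zero])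
    | succ j ih =>
      by_cases h0 : Ws j = ⊥
      · have : Ws (j + 1) = ⊥ := by
          simp only [Ws, Function.iterate_succ_apply']
          exact le_bot_iff.1 (h0 ▸ dispSub_le ρ (hWs j))
        rw [this]; simp
      · have hlt : Ws (j + 1) < Ws j := by
          simp only [Ws, Function.iterate_succ_apply']
          exact dispSub_lt hD ρ (hWs j) h0
        have := Submodule.finrank_lt_finrank_of_lt hlt
        omega
  have hNn : N ^ n = 0 := by
    refine Matrix.ext_iff_mulVec.2 fun v => ?_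
    have hmem : ∀ j, (N ^ j) *ᵥ v ∈ Ws j := by
      intro j
      induction j with
      | zero => simp [Ws]
      | succ j ih => rw [pow_succ', ← mulVec_mulVec]; exact hNWs j _ ih
    have hbot : Ws n = ⊥ := Submodule.finrank_eq_zero.1 (by have := hdim n; omega)
    have := hmem n
    rw [hbot, Submodule.mem_bot] at this
    simp [this]
  haveI : Nonempty (Fin n) := by
    by_contra hemp
    rw [not_nonempty_iff] at hemp
    exact hd₀1 (sl_ext_mulVec fun v => funext fun i => isEmptyElim i)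
  haveI : CharP (Matrix (Fin n) (Fin n) F) p := Matrix.charP p
  have hpn : n ≤ p ^ n := (Nat.lt_pow_self hp.out.one_lt).le
  have hyp : ((y ^ p ^ n : 𝔾) : Matrix (Fin n) (Fin n) F) = Matrix.scalar (Fin n) (c ^ p ^ n) := by
    rw [Matrix.SpecialLinearGroup.coe_pow, map_pow,
      show (y : Matrix (Fin n) (Fin n) F) = Matrix.scalar (Fin n) c + N by rw [hN]; abel,
      add_pow_char_pow_of_commute p n (Matrix.scalar_commute c (fun r => mul_comm c r) N),
      pow_eq_zero_of_le hpn hNn, add_zero]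
  obtain ⟨m, hm⟩ := exists_pow_eq_self_of_coprime (x := y) (n := p ^ n)
    (((hp.out.coprime_iff_not_dvd).2 hy).pow_left n)
  rw [← hm]
  exact pow_mem (mem_center_of_scalar hyp) m

end CfsgLib.ClassK.SLn
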