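import Cfsg.Agent.Lib.ClassK.SLSteinberg
import Cfsg.Agent.Lib.ClassK.SLDefectZero
import Cfsg.Agent.Lib.ClassK.SLRadical
import Cfsg.Agent.Lib.BlockLocal.DefectCount
import Cfsg.Agent.Lib.Blocks.FirstMain
import Cfsg.Agent.Lib.Blocks.RootsOfUnity
import Cfsg.Agent.Lib.BrauerPairs.BridgeDefect

/-!
# The `p`-blocks of the special linear group in its own characteristic
-/

set_option autoImplicit false
set_option linter.style.haveILetI false
set_option linter.unusedSectionVars false

open Matrix Cfsg CfsgLib.Blocks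

namespace CfsgLib.ClassK.SLn

/-- Irreducible characters are multiplicative up to degree at central elements. -/
theorem irr_mul_center {G : Type*} [Group G] [Finite G] (χ : IrrCharacter G) {z : G}
    (hz : z ∈ Subgroup.center G) (w : G) :
    (χ : G → ℂ) (z * w) = (χ : G → ℂ) z * (χ : G → ℂ) w / (χ : G → ℂ) 1 := by
  haveI := Fintype.ofFinite G
  have h := CharTheory.IsIrrCharacter.sum_conj_mul χ.2 z w
  have e : ∀ x : G, x * z * x⁻¹ = z := fun x => by
    rw [Subgroup.mem_center_iff.1 hz x, mul_inv_cancel_right]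
  simp only [e, Finset.sum_const, Finset.card_univ, nsmul_eq_mul, ← Nat.card_eq_fintype_card] at h
  refine mul_left_cancel₀ (Nat.cast_ne_zero.2 (Nat.card_pos (α := G)).ne' : (Nat.card G : ℂ) ≠ 0)
    (h.trans ?_)
  ring

/-- The central character on the centre. -/
noncomputable def centerHom {G : Type*} [Group G] [Finite G] (χ : IrrCharacter G) :
    Subgroup.center G →* ℂ where
  toFun z := (χ : G → ℂ) z / (χ : G → ℂ) 1
  map_one' := div_self (CharTheory.apply_one_ne_zero_of_isIrr χ.2)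
  map_mul' z w := by
    rw [Subgroup.coe_mul, irr_mul_center χ z.2]
    field_simp

theorem centralChar_center {G : Type*} [Group G] [Finite G] (χ : IrrCharacter G)
    (z : Subgroup.center G) : centralChar (χ : G → ℂ) (z : G) = centerHom χ z := by
  have h : Subgroup.centralizer ({(z : G)} : Set G) = ⊤ :=
    Subgroup.centralizer_eq_top_iff_subset.2 (Set.singleton_subset_iff.2 z.2)
  rw [centralChar_apply, h, Subgroup.index_top, Nat.cast_one, one_mul]
  rfl

/-- The central characters restricted to the centre span all functions. -/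
theorem card_center_le_card_range {G : Type*} [Group G] [Finite G] :
    Nat.card (Subgroup.center G) ≤
      Nat.card (Set.range (centerHom : IrrCharacter G → Subgroup.center G →* ℂ)) := by
  classical
  haveI := Fintype.ofFinite G
  haveI := Fintype.ofFinite (IrrCharacter G)
  haveI := Fintype.ofFinite (Subgroup.center G)
  haveI : Finite (Set.range (centerHom : IrrCharacter G → Subgroup.center G →* ℂ)) :=
    Set.finite_range centerHom
  haveI := Fintype.ofFinite (Set.range (centerHom : IrrCharacter G → Subgroup.center G →* ℂ))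
  set S := Submodule.span ℂ (Set.range fun f :
      Set.range (centerHom : IrrCharacter G → Subgroup.center G →* ℂ) =>
        (⇑(f : Subgroup.center G →* ℂ) : Subgroup.center G → ℂ))
  have htop : ∀ a, (Pi.single a (1 : ℂ) : Subgroup.center G → ℂ) ∈ S := by
    intro a
    have e : (Pi.single a (1 : ℂ) : Subgroup.center G → ℂ) =
        ∑ χ : IrrCharacter G, ((Nat.card G : ℂ)⁻¹ * ((χ : G → ℂ) 1 * (χ : G → ℂ) 1) *
          centerHom χ a⁻¹) • (⇑(centerHom χ) : Subgroup.center G → ℂ) := by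
      funext z
      rw [Finset.sum_apply]
      simp only [Pi.smul_apply, smul_eq_mul]
      have e1 : ∀ χ : IrrCharacter G, (Nat.card G : ℂ)⁻¹ * ((χ : G → ℂ) 1 * (χ : G → ℂ) 1) *
          centerHom χ a⁻¹ * centerHom χ z =
          (Nat.card G : ℂ)⁻¹ * ((χ : G → ℂ) 1 * (χ : G → ℂ) ((a⁻¹ * z : Subgroup.center G) : G)) := by
        intro χ
        rw [mul_assoc, ← map_mul]
        show _ * ((χ : G → ℂ) _ / (χ : G → ℂ) 1) = _
        field_simp [CharTheory.apply_one_ne_zero_of_isIrr χ.2]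
      rw [Finset.sum_congr rfl fun χ _ => e1 χ, ← Finset.mul_sum, CharTheory.sum_degree_mul]
      by_cases hz : z = a
      · subst hz
        simp [Nat.card_pos.ne']
      · rw [if_neg, mul_zero, Pi.single_eq_of_ne hz]
        intro h
        exact hz (inv_mul_eq_one.1 (Subtype.ext h : a⁻¹ * z = 1)).symm
    rw [e]
    exact Submodule.sum_mem _ fun χ _ =>
      Submodule.smul_mem _ _ (Submodule.subset_span ⟨⟨_, χ, rfl⟩, rfl⟩)
  have hS : S = ⊤ := eq_top_iff.2 fun f _ => by
    rw [pi_eq_sum_univ f]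
    refine Submodule.sum_mem _ fun a _ => Submodule.smul_mem _ _ ?_
    convert htop a using 1
    funext b
    simp [Pi.single_apply, eq_comm]
  have h1 : Module.finrank ℂ S ≤
      Fintype.card (Set.range (centerHom : IrrCharacter G → Subgroup.center G →* ℂ)) :=
    finrank_range_le_card _
  rw [hS, finrank_top, Module.finrank_pi, ← Nat.card_eq_fintype_card, ← Nat.card_eq_fintype_card]
    at h1
  exact h1

variable {n : ℕ} {F : Type*} [Field F] [Fintype F] {p : ℕ} [Fact p.Prime] [CharP F p]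
variable {M : Ideal AlgInt}

local notation "𝔾" => SpecialLinearGroup (Fin n) F

theorem one_lt_card_upperU (hn : 2 ≤ n) : 1 < Nat.card (upperU n F) := by
  rw [card_upperU]
  refine Nat.one_lt_pow ?_ Fintype.one_lt_card
  have : 2 ≤ n * (n - 1) := by
    obtain ⟨m, rfl⟩ : ∃ m, n = m + 2 := ⟨n - 2, by omega⟩
    show 2 ≤ (m + 2) * (m + 1)
    nlinarith
  omega

theorem sylow_ne_bot (hn : 2 ≤ n) (P : Sylow p 𝔾) : (P : Subgroup 𝔾) ≠ ⊥ := by
  intro e
  have h := one_lt_card_upperU (F := F) hn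
  rw [card_eq_sylow p P, e, Subgroup.card_bot] at h
  exact lt_irrefl _ h

theorem dvd_card (hn : 2 ≤ n) : p ∣ Nat.card 𝔾 := by
  obtain ⟨P⟩ := (inferInstance : Nonempty (Sylow p 𝔾))
  obtain ⟨k, hk⟩ := IsPGroup.iff_card.1 P.isPGroup'
  rcases k with _ | k
  · exact absurd (Subgroup.eq_bot_of_card_eq _ (by simpa using hk)) (sylow_ne_bot hn P)
  · exact (dvd_pow_self p k.succ_ne_zero).trans (hk ▸ Subgroup.card_subgroup_dvd_card _)

variable (p) in
/-- The Steinberg character has defect zero and is trivial on the centre. -/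
theorem exists_full (n : ℕ) (F : Type*) [Field F] [Fintype F] [CharP F p] :
    ∃ St : IrrCharacter (SpecialLinearGroup (Fin n) F),
      ¬ p ∣ Nat.card (SpecialLinearGroup (Fin n) F) /
        charDegree (St : SpecialLinearGroup (Fin n) F → ℂ) ∧
      centerHom St = 1 := by
  obtain ⟨χ, h1, -, hz⟩ := exists_steinberg n F
  refine ⟨χ, ?_, MonoidHom.ext fun z => ?_⟩
  · have hd : charDegree (χ : SpecialLinearGroup (Fin n) F → ℂ) = Nat.card (upperU n F) := by
      have := charDegree_cast χ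
      rw [h1] at this
      exact_mod_cast this
    rw [hd, ← Subgroup.card_mul_index (upperU n F), Nat.mul_div_cancel_left _ Nat.card_pos]
    exact not_dvd_index_upperU p
  · show (χ : SpecialLinearGroup (Fin n) F → ℂ) z / _ = 1
    rw [hz z z.2, div_self (CharTheory.apply_one_ne_zero_of_isIrr χ.2)]

theorem trivIrr_not_full (hn : 2 ≤ n) :
    p ∣ Nat.card 𝔾 / charDegree (CharTheory.trivIrr 𝔾 : 𝔾 → ℂ) := by
  have : charDegree (CharTheory.trivIrr 𝔾 : 𝔾 → ℂ) = 1 := by
    simp [charDegree, CharTheory.trivIrr_apply]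
  rw [this, Nat.div_one]
  exact dvd_card hn

variable [hMp : M.IsPrime]

theorem blockDefect_eq_zero_iff (hM : IsPModular p M) {B : Set (IrrCharacter 𝔾)}
    (hB : IsPBlock M B) :
    blockDefect p B = 0 ↔ ∃ χ : IrrCharacter 𝔾,
      ¬ p ∣ Nat.card 𝔾 / charDegree (χ : 𝔾 → ℂ) ∧ B = {χ} := by
  constructor
  · intro h
    obtain ⟨χ, hχ⟩ := isPBlock_nonempty hB
    have hle : sInf ((fun ψ : IrrCharacter 𝔾 => (charDegree (ψ : 𝔾 → ℂ)).factorization p) '' B) ≤
        (charDegree (χ : 𝔾 → ℂ)).factorization p := Nat.sInf_le ⟨χ, hχ, rfl⟩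
    have hle' := (Nat.factorization_le_iff_dvd (charDegree_ne_zero' χ) Nat.card_pos.ne').2
      (charDegree_dvd_card χ) p
    rw [blockDefect] at h
    have hfull : ¬ p ∣ Nat.card 𝔾 / charDegree (χ : 𝔾 → ℂ) :=
      (not_dvd_card_div_charDegree_iff χ).2 (by omega)
    refine ⟨χ, hfull, ?_⟩
    rw [eq_blockOf_of_mem hB hχ, blockOf_eq_singleton_of_full hM χ hfull]
  · rintro ⟨χ, hχ, rfl⟩
    rw [blockDefect, Set.image_singleton, csInf_singleton,
      (not_dvd_card_div_charDegree_iff χ).1 hχ, Nat.sub_self]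

theorem card_defect_zero_blocks (hM : IsPModular p M) :
    Nat.card {B : Set (IrrCharacter 𝔾) // IsPBlock M B ∧ blockDefect p B = 0} = 1 := by
  obtain ⟨St, hSt, -⟩ := exists_full p n F
  have hb : IsPBlock M ({St} : Set (IrrCharacter 𝔾)) :=
    blockOf_eq_singleton_of_full hM St hSt ▸ isPBlock_blockOf St
  refine Nat.card_eq_one_iff_unique.2
    ⟨⟨fun a b => Subtype.ext ?_⟩, ⟨⟨{St}, hb, (blockDefect_eq_zero_iff hM hb).2 ⟨St, hSt, rfl⟩⟩⟩⟩
  obtain ⟨χ, hχ, ha⟩ := (blockDefect_eq_zero_iff hM a.2.1).1 a.2.2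
  obtain ⟨ψ, hψ, hb⟩ := (blockDefect_eq_zero_iff hM b.2.1).1 b.2.2
  rw [ha, hb, eq_of_full hM χ ψ hχ hψ]

theorem blockDefect_cases (hM : IsPModular p M) {B : Set (IrrCharacter 𝔾)} (hB : IsPBlock M B) :
    blockDefect p B = 0 ∨ blockDefect p B = (Nat.card 𝔾).factorization p := by
  obtain ⟨D, hD⟩ := CfsgLib.BrauerPairs.exists_isDefectGroup hM hB
  have hcard := card_isDefectGroup hM hB hD
  by_cases hbot : D = ⊥
  · left
    rw [hbot, Subgroup.card_bot] at hcard
    exact ((Nat.pow_eq_one.1 hcard.symm).resolve_left (Fact.out : p.Prime).ne_one)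
  · right
    obtain ⟨y, hy, S, hS⟩ := id hD
    have hDy : ∀ d ∈ D, y * d = d * y := fun d hd =>
      (Subgroup.mem_centralizer_singleton_iff.mp (sylow_map_le S (hS ▸ hd))).symm
    have hrad : ∀ A : Subgroup 𝔾, IsPGroup p A →
        (∀ m ∈ Subgroup.normalizer (D : Set 𝔾), ∀ a ∈ A, m * a * m⁻¹ ∈ A) →
        A ≤ Subgroup.normalizer (D : Set 𝔾) → A ≤ D := by
      intro A hA hnorm hAN
      obtain ⟨b, hb, hbD, -⟩ := exists_block_normalizer hM hB hD
      haveI : (A.subgroupOf (Subgroup.normalizer (D : Set 𝔾))).Normal :=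
        ⟨fun a ha m => hnorm m m.2 a ha⟩
      have h1 := (CfsgLib.Cores.le_pCore (N := A.subgroupOf (Subgroup.normalizer (D : Set 𝔾)))
        (hA.comap_of_injective _ Subtype.val_injective)).trans (pCore_le_isDefectGroup hM hb hbD)
      intro a ha
      exact h1 (show (⟨a, hAN ha⟩ : Subgroup.normalizer (D : Set 𝔾)) ∈
        A.subgroupOf (Subgroup.normalizer (D : Set 𝔾)) from ha)
    have hyc := mem_center_of_radical D (isPGroup_of_isDefectGroup hD) hbot
      (not_dvd_orderOf_of_isDefectClass hM hB hy) hDy hrad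
    have hCtop : Subgroup.centralizer ({y} : Set 𝔾) = ⊤ :=
      Subgroup.centralizer_eq_top_iff_subset.2 (Set.singleton_subset_iff.2 hyc)
    have h2 : Nat.card D = p ^ (Nat.card (Subgroup.centralizer ({y} : Set 𝔾))).factorization p := by
      rw [hS, card_sylow_map]
    rw [hCtop, Subgroup.card_top] at h2
    exact Nat.pow_right_injective (Fact.out : p.Prime).two_le (hcard.symm.trans h2)

theorem card_full_blocks_le (hM : IsPModular p M) (hn : 2 ≤ n) :
    Nat.card {B : Set (IrrCharacter 𝔾) //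
        IsPBlock M B ∧ (Nat.card 𝔾).factorization p ≤ blockDefect p B} ≤
      Nat.card (Subgroup.center 𝔾) := by
  classical
  refine (CfsgLib.BlockLocal.card_blocks_le_card_classes hM _).trans ?_
  haveI : Finite (ConjClasses 𝔾) := Finite.of_surjective _ ConjClasses.mk_surjective
  have key : ∀ C : {C : ConjClasses 𝔾 // ∃ g : 𝔾, ConjClasses.mk g = C ∧ IsPRegular p g ∧
      (Nat.card 𝔾).factorization p ≤
        (Nat.card (Subgroup.centralizer ({g} : Set 𝔾))).factorization p},
      ∃ z : Subgroup.center 𝔾, ConjClasses.mk (z : 𝔾) = C.1 := by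
    rintro ⟨C, g, rfl, hreg, hfull⟩
    obtain ⟨S⟩ := (inferInstance : Nonempty (Sylow p (Subgroup.centralizer ({g} : Set 𝔾))))
    obtain ⟨P, hP⟩ := (isPGroup_sylow_map S).exists_le_sylow
    have hSP := Subgroup.eq_of_le_of_card_ge hP (by
      rw [card_sylow_map, Sylow.card_eq_multiplicity]
      exact Nat.pow_le_pow_right (Fact.out : p.Prime).pos hfull)
    have hgc : ∀ d ∈ (P : Subgroup 𝔾), g * d = d * g := fun d hd =>
      (Subgroup.mem_centralizer_singleton_iff.mp (sylow_map_le S (hSP.symm ▸ hd))).symm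
    refine ⟨⟨g, mem_center_of_radical (P : Subgroup 𝔾) P.isPGroup' (sylow_ne_bot hn P) hreg hgc
      fun A hA _ hAN => ?_⟩, rfl⟩
    have hsup := hA.to_sup_of_normal_right' P.isPGroup' hAN
    have := P.is_maximal' hsup le_sup_right
    exact this ▸ le_sup_left
  choose f hf using key
  exact Nat.card_le_card_of_injective f fun a b h => Subtype.ext (by rw [← hf a, ← hf b, h])

theorem center_le_card_full_blocks (hM : IsPModular p M) (hn : 2 ≤ n) :
    Nat.card (Subgroup.center 𝔾) ≤
      Nat.card {B : Set (IrrCharacter 𝔾) //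
        IsPBlock M B ∧ (Nat.card 𝔾).factorization p ≤ blockDefect p B} := by
  classical
  obtain ⟨St, hSt, hSt1⟩ := exists_full p n F
  have hrep : ∀ f : Set.range (centerHom : IrrCharacter 𝔾 → Subgroup.center 𝔾 →* ℂ),
      ∃ χ : IrrCharacter 𝔾, centerHom χ = f.1 ∧ p ∣ Nat.card 𝔾 / charDegree (χ : 𝔾 → ℂ) := by
    rintro ⟨f, χ, rfl⟩
    by_cases h : p ∣ Nat.card 𝔾 / charDegree (χ : 𝔾 → ℂ)
    · exact ⟨χ, rfl, h⟩
    · refine ⟨CharTheory.trivIrr 𝔾, ?_, trivIrr_not_full hn⟩
      show _ = centerHom χ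
      rw [eq_of_full hM χ St h hSt, hSt1]
      refine MonoidHom.ext fun z => ?_
      show (CharTheory.trivIrr 𝔾 : 𝔾 → ℂ) z / (CharTheory.trivIrr 𝔾 : 𝔾 → ℂ) 1 = 1
      simp [CharTheory.trivIrr_apply]
  choose χ hχ hχp using hrep
  have hdef : ∀ f, (Nat.card 𝔾).factorization p ≤
      blockDefect p (blockOf M (χ f : 𝔾 → ℂ)) := by
    intro f
    rcases blockDefect_cases hM (isPBlock_blockOf (M := M) (χ f)) with h | h
    · obtain ⟨φ, hφ, e⟩ := (blockDefect_eq_zero_iff hM (isPBlock_blockOf (χ f))).1 h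
      have : χ f = φ := Set.mem_singleton_iff.1 (e ▸ mem_blockOf_self (χ f))
      exact absurd (hχp f) (this ▸ hφ)
    · exact h.ge
  have hZ : ¬ p ∣ Nat.card (Subgroup.center 𝔾) := by
    haveI : Nonempty (Fin n) := ⟨⟨0, by omega⟩⟩
    rw [CfsgLib.ClassicalLinear.card_center_SL, Fintype.card_fin]
    intro h
    have h1 : p ∣ Fintype.card F - 1 := h.trans (Nat.gcd_dvd_right _ _)
    obtain ⟨k, hk, hq⟩ := CfsgLib.ClassicalLinear.card_field_eq_pow (F := F) p
    have h2 : p ∣ Fintype.card F := hq ▸ dvd_pow_self p hk.ne'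
    have h3 := Nat.dvd_sub h2 h1
    rw [Nat.sub_sub_self Fintype.card_pos] at h3
    exact (Fact.out : p.Prime).not_dvd_one h3
  refine card_center_le_card_range.trans (Nat.card_le_card_of_injective
    (fun f => (⟨blockOf M (χ f : 𝔾 → ℂ), isPBlock_blockOf _, hdef f⟩ :
      {B : Set (IrrCharacter 𝔾) //
        IsPBlock M B ∧ (Nat.card 𝔾).factorization p ≤ blockDefect p B})) fun f g h => ?_)
  have hsame : SameBlock M (χ f : 𝔾 → ℂ) (χ g : 𝔾 → ℂ) := by
    have hB : blockOf M (χ f : 𝔾 → ℂ) = blockOf M (χ g : 𝔾 → ℂ) := congrArg Subtype.val h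
    exact sameBlock_of_mem (isPBlock_blockOf _) (mem_blockOf_self _)
      (hB.symm ▸ mem_blockOf_self (χ g))
  refine Subtype.ext ?_
  rw [← hχ f, ← hχ g]
  refine MonoidHom.ext fun z => ?_
  refine eq_of_sub_mem_of_pow_eq_one hM hZ hZ ?_ ?_ ?_
  · rw [← map_pow, pow_card_eq_one', map_one]
  · rw [← map_pow, pow_card_eq_one', map_one]
  · rw [← centralChar_center, ← centralChar_center]
    exact hsame (z : 𝔾)

theorem card_full_blocks (hM : IsPModular p M) (hn : 2 ≤ n) :
    Nat.card {B : Set (IrrCharacter 𝔾) //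
        IsPBlock M B ∧ (Nat.card 𝔾).factorization p ≤ blockDefect p B} =
      Nat.gcd n (Fintype.card F - 1) := by
  haveI : Nonempty (Fin n) := ⟨⟨0, by omega⟩⟩
  rw [le_antisymm (card_full_blocks_le hM hn) (center_le_card_full_blocks hM hn),
    CfsgLib.ClassicalLinear.card_center_SL, Fintype.card_fin]

theorem card_blocks (hM : IsPModular p M) (hn : 2 ≤ n) :
    Nat.card {B : Set (IrrCharacter 𝔾) // IsPBlock M B} =
      Nat.gcd n (Fintype.card F - 1) + 1 := by
  classical
  have ha : 0 < (Nat.card 𝔾).factorization p :=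
    (Fact.out : p.Prime).factorization_pos_of_dvd Nat.card_pos.ne' (dvd_card hn)
  rw [← card_full_blocks hM hn, ← card_defect_zero_blocks (n := n) (F := F) hM, ← Nat.card_sum]
  refine Nat.card_congr ((Equiv.sumCompl (fun B : {B : Set (IrrCharacter 𝔾) // IsPBlock M B} =>
    (Nat.card 𝔾).factorization p ≤ blockDefect p B.1)).symm.trans (Equiv.sumCongr
      (Equiv.subtypeSubtypeEquivSubtypeInter (fun B => IsPBlock M B)
        fun B => (Nat.card 𝔾).factorization p ≤ blockDefect p B) ?_))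
  refine (Equiv.subtypeSubtypeEquivSubtypeInter (fun B => IsPBlock M B)
    fun B => ¬ (Nat.card 𝔾).factorization p ≤ blockDefect p B).trans
      (Equiv.subtypeEquivRight fun B => and_congr_right fun hB => ?_)
  rcases blockDefect_cases hM hB with h | h <;> omega

end CfsgLib.ClassK.SLn
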