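import Cfsg.Agent.Lib.ClassK.SLBorel

/-!
# Corner minors on the special linear group and the open Bruhat cell
-/

set_option autoImplicit false

open Matrix

namespace CfsgLib.ClassK.SLn

variable {n : ℕ} {F : Type*} [Field F]

local notation "𝔾" => SpecialLinearGroup (Fin n) F

/-- The last `k` indices. -/
def bot (k : Fin (n + 1)) (i : Fin k) : Fin n :=
  ⟨n - k + i, by have := i.isLt; have := k.isLt; omega⟩

/-- The first `k` indices. -/
def top (k : Fin (n + 1)) (i : Fin k) : Fin n :=
  ⟨i, by have := i.isLt; have := k.isLt; omega⟩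

theorem bot_injective (k : Fin (n + 1)) : Function.Injective (bot k) := fun a b h => by
  simp only [bot, Fin.ext_iff] at h
  exact Fin.ext (by omega)

theorem top_injective (k : Fin (n + 1)) : Function.Injective (top k) := fun a b h => by
  simp only [top, Fin.ext_iff] at h
  exact Fin.ext h

theorem le_of_notMem_range_top {k : Fin (n + 1)} {i : Fin n} (h : i ∉ Set.range (top k)) :
    (k : ℕ) ≤ i := by
  by_contra hc
  exact h ⟨⟨i, by omega⟩, rfl⟩

theorem lt_of_notMem_range_bot {k : Fin (n + 1)} {i : Fin n} (h : i ∉ Set.range (bot k)) :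
    (i : ℕ) < n - k := by
  by_contra hc
  refine h ⟨⟨i - (n - k), by have := i.isLt; omega⟩, Fin.ext ?_⟩
  show n - (k : ℕ) + (i - (n - k)) = i
  omega

/-- The lower left minor. -/
noncomputable def llMinor (g : SpecialLinearGroup (Fin n) F) (k : Fin (n + 1)) : F :=
  ((g : Matrix (Fin n) (Fin n) F).submatrix (bot k) (top k)).det

/-- The upper right minor. -/
noncomputable def urMinor (g : SpecialLinearGroup (Fin n) F) (k : Fin (n + 1)) : F :=
  ((g : Matrix (Fin n) (Fin n) F).submatrix (top k) (bot k)).det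

theorem llMinor_mul_left [Finite F] {u : 𝔾} (hu : u ∈ upperU n F) (g : 𝔾) (k : Fin (n + 1)) :
    llMinor (u * g : 𝔾) k = llMinor g k := by
  have e : ((u * g : 𝔾) : Matrix (Fin n) (Fin n) F).submatrix (bot k) (top k) =
      (u : Matrix (Fin n) (Fin n) F).submatrix (bot k) (bot k) *
        (g : Matrix (Fin n) (Fin n) F).submatrix (bot k) (top k) := by
    ext i j
    rw [Matrix.submatrix_apply, Matrix.SpecialLinearGroup.coe_mul, Matrix.mul_apply,
      Matrix.mul_apply]
    symm
    refine Fintype.sum_of_injective (bot k) (bot_injective k) _ _ (fun l hl => ?_) (fun l => rfl)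
    have := lt_of_notMem_range_bot hl
    rw [hu.1 _ _ (Fin.lt_def.2 (by simp only [bot]; omega)), zero_mul]
  have hdet : ((u : Matrix (Fin n) (Fin n) F).submatrix (bot k) (bot k)).det = 1 := by
    rw [Matrix.det_of_isUpperTriangular]
    · simp [hu.2]
    · intro i j (h : j < i)
      exact hu.1 _ _ (Fin.lt_def.2 (by simp only [bot]; have := Fin.lt_def.1 h; omega))
  rw [llMinor, llMinor, e, det_mul, hdet, one_mul]

theorem llMinor_mul_right [Finite F] {v : 𝔾} (hv : v ∈ upperU n F) (g : 𝔾) (k : Fin (n + 1)) :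
    llMinor (g * v : 𝔾) k = llMinor g k := by
  have e : ((g * v : 𝔾) : Matrix (Fin n) (Fin n) F).submatrix (bot k) (top k) =
      (g : Matrix (Fin n) (Fin n) F).submatrix (bot k) (top k) *
        (v : Matrix (Fin n) (Fin n) F).submatrix (top k) (top k) := by
    ext i j
    rw [Matrix.submatrix_apply, Matrix.SpecialLinearGroup.coe_mul, Matrix.mul_apply,
      Matrix.mul_apply]
    symm
    refine Fintype.sum_of_injective (top k) (top_injective k) _ _ (fun l hl => ?_) (fun l => rfl)
    have := le_of_notMem_range_top hl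
    rw [hv.1 _ _ (Fin.lt_def.2 (by simp only [top]; omega)), mul_zero]
  have hdet : ((v : Matrix (Fin n) (Fin n) F).submatrix (top k) (top k)).det = 1 := by
    rw [Matrix.det_of_isUpperTriangular]
    · simp [hv.2]
    · intro i j (h : j < i)
      exact hv.1 _ _ (Fin.lt_def.2 (by simp only [top]; exact Fin.lt_def.1 h))
  rw [llMinor, llMinor, e, det_mul, hdet, mul_one]

/-- Scaling and reversing the indices. -/
theorem llMinor_scale_rev (y z : 𝔾) (r s : Fin n → F)
    (h : ∀ a b, y a b = r a * z (Fin.rev a) (Fin.rev b) * s b) (k : Fin (n + 1)) :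
    llMinor y k = (∏ i, r (bot k i)) * (∏ i, s (top k i)) * urMinor z k := by
  have e : (y : Matrix (Fin n) (Fin n) F).submatrix (bot k) (top k) = of fun i j => r (bot k i) *
      (of fun i j => s (top k j) *
        ((z : Matrix (Fin n) (Fin n) F).submatrix (top k) (bot k)).submatrix Fin.revPerm Fin.revPerm i j) i j := by
    ext i j
    simp only [submatrix_apply, of_apply, Fin.revPerm_apply, h]
    have h1 : Fin.rev (bot k i) = top k (Fin.rev i) := Fin.ext (by
      simp only [Fin.val_rev, bot, top]; have := i.isLt; have := k.isLt; omega)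
    have h2 : Fin.rev (top k j) = bot k (Fin.rev j) := Fin.ext (by
      simp only [Fin.val_rev, bot, top]; have := j.isLt; have := k.isLt; omega)
    rw [h1, h2]
    ring
  rw [llMinor, e, Matrix.det_mul_column, Matrix.det_mul_row, Matrix.det_submatrix_equiv_self,
    urMinor]
  ring

theorem llMinor_mono_ne_zero {m : 𝔾} (hm : IsMono Fin.revPerm m) (k : Fin (n + 1)) :
    llMinor m k ≠ 0 := by
  have e : ((m : Matrix (Fin n) (Fin n) F).submatrix (bot k) (top k)).submatrix id Fin.revPerm =
      Matrix.diagonal fun i : Fin k => m (bot k i) (top k (Fin.rev i)) := by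
    ext i j
    simp only [submatrix_apply, id_eq, Fin.revPerm_apply, Matrix.diagonal_apply]
    split_ifs with h
    · rw [h]
    · refine hm _ _ fun e => h (Fin.ext ?_)
      rw [Fin.revPerm_apply, Fin.ext_iff, Fin.val_rev] at e
      simp only [bot, top, Fin.val_rev] at e
      have := j.isLt; have := i.isLt; have := k.isLt
      omega
  have h1 : (Matrix.diagonal fun i : Fin k => m (bot k i) (top k (Fin.rev i))).det ≠ 0 := by
    rw [det_diagonal]
    refine Finset.prod_ne_zero_iff.2 fun i _ => ?_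
    have := hm.ne_zero (top k (Fin.rev i))
    convert this using 2
    refine Fin.ext ?_
    simp only [Fin.revPerm_apply, Fin.val_rev, bot, top]
    have := i.isLt; have := k.isLt
    omega
  intro h0
  rw [← e, Matrix.det_permute'] at h1
  exact h1 (by rw [show ((m : Matrix (Fin n) (Fin n) F).submatrix (bot k) (top k)).det = 0 from h0,
    mul_zero])

theorem llMinor_diag_mul {t : 𝔾} (ht : IsMono 1 t) (g : 𝔾) (k : Fin (n + 1)) :
    llMinor (t * g : 𝔾) k = (∏ i, t (bot k i) (bot k i)) * llMinor g k := by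
  have e : ((t * g : 𝔾) : Matrix (Fin n) (Fin n) F).submatrix (bot k) (top k) =
      of fun i j => t (bot k i) (bot k i) *
        (g : Matrix (Fin n) (Fin n) F).submatrix (bot k) (top k) i j := by
    ext i j
    rw [submatrix_apply, Matrix.SpecialLinearGroup.coe_mul, Matrix.mul_apply,
      Fintype.sum_eq_single (bot k i)]
    · rfl
    · intro l hl
      rw [ht _ _ (fun e => hl e.symm), zero_mul]
  rw [llMinor, e, Matrix.det_mul_column]
  rfl

theorem llMinor_zero (g : 𝔾) : llMinor g 0 = 1 := by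
  haveI : IsEmpty (Fin ((0 : Fin (n + 1)) : ℕ)) := ⟨fun i => by simpa using i.isLt⟩
  exact Matrix.det_isEmpty

theorem llMinor_last (g : 𝔾) : llMinor g (Fin.last n) = 1 := by
  have e : ∀ i : Fin ((Fin.last n : Fin (n + 1)) : ℕ), bot (Fin.last n) i = i ∧
      top (Fin.last n) i = i := fun i => ⟨Fin.ext (by simp [bot]), rfl⟩
  have h1 : bot (Fin.last n) = (id : Fin n → Fin n) := funext fun i => (e i).1
  have h2 : top (Fin.last n) = (id : Fin n → Fin n) := funext fun i => (e i).2
  show ((g : Matrix (Fin n) (Fin n) F).submatrix (bot (Fin.last n)) (top (Fin.last n))).det = 1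
  rw [h1, h2]
  exact g.det_coe

/-- A vanishing corner minor gives a unipotent element moved into the unitriangular group. -/
theorem exists_conj_mem_of_llMinor_eq_zero [Finite F] {g : 𝔾} {k : Fin (n + 1)}
    (h : llMinor g k = 0) :
    ∃ v ∈ upperU n F, v ≠ 1 ∧ g * v * g⁻¹ ∈ upperU n F := by
  classical
  obtain ⟨a₀, ha₀, hPa⟩ := Matrix.exists_mulVec_eq_zero_iff.2 h
  obtain ⟨ψ₀, hψ₀, hψP⟩ := Matrix.exists_vecMul_eq_zero_iff.2 h
  set G₀ : Matrix (Fin n) (Fin n) F := (g : Matrix (Fin n) (Fin n) F) with hG₀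
  set a : Fin n → F := Function.extend (top k) a₀ 0 with ha
  set ψ : Fin n → F := Function.extend (bot k) ψ₀ 0 with hψ
  set φ : Fin n → F := ψ ᵥ* G₀ with hφ
  set b : Fin n → F := G₀ *ᵥ a with hb
  have a_top : ∀ j, a (top k j) = a₀ j := fun j => (top_injective k).extend_apply _ _ _
  have a_zero : ∀ i : Fin n, i ∉ Set.range (top k) → a i = 0 := fun i hi =>
    Function.extend_apply' _ _ _ (fun ⟨j, hj⟩ => hi ⟨j, hj⟩)
  have ψ_bot : ∀ j, ψ (bot k j) = ψ₀ j := fun j => (bot_injective k).extend_apply _ _ _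
  have ψ_zero : ∀ i : Fin n, i ∉ Set.range (bot k) → ψ i = 0 := fun i hi =>
    Function.extend_apply' _ _ _ (fun ⟨j, hj⟩ => hi ⟨j, hj⟩)
  have hb0 : ∀ i, b (bot k i) = 0 := by
    intro i
    have := congrFun hPa i
    rw [Pi.zero_apply] at this
    rw [← this, hb]
    show ∑ l, G₀ (bot k i) l * a l = _
    symm
    refine Fintype.sum_of_injective (top k) (top_injective k) _ _
      (fun l hl => by rw [a_zero l hl, mul_zero]) (fun l => by rw [a_top]; rfl)
  have hφ0 : ∀ j, φ (top k j) = 0 := by
    intro j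
    have := congrFun hψP j
    rw [Pi.zero_apply] at this
    rw [← this, hφ]
    show ∑ l, ψ l * G₀ l (top k j) = _
    symm
    refine Fintype.sum_of_injective (bot k) (bot_injective k) _ _
      (fun l hl => by rw [ψ_zero l hl, zero_mul]) (fun l => by rw [ψ_bot]; rfl)
  have hV : ∀ i j : Fin n, j ≤ i → a i * φ j = 0 := by
    intro i j hji
    by_cases hi : i ∈ Set.range (top k)
    · obtain ⟨i', rfl⟩ := hi
      have hj : j ∈ Set.range (top k) := by
        by_contra hj
        have := le_of_notMem_range_top hj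
        have := Fin.le_def.1 hji
        have := i'.isLt
        simp only [top] at *
        omega
      obtain ⟨j', rfl⟩ := hj
      rw [hφ0, mul_zero]
    · rw [a_zero i hi, zero_mul]
  have hW : ∀ i j : Fin n, j ≤ i → b i * ψ j = 0 := by
    intro i j hji
    by_cases hj : j ∈ Set.range (bot k)
    · obtain ⟨j', rfl⟩ := hj
      have hi : i ∈ Set.range (bot k) := by
        by_contra hi
        have := lt_of_notMem_range_bot hi
        have := Fin.le_def.1 hji
        simp only [bot] at *
        omega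
      obtain ⟨i', rfl⟩ := hi
      rw [hb0, zero_mul]
    · rw [ψ_zero j hj, mul_zero]
  have mk : ∀ x y : Fin n → F, (∀ i j : Fin n, j ≤ i → x i * y j = 0) →
      ∃ v : 𝔾, v ∈ upperU n F ∧ (v : Matrix (Fin n) (Fin n) F) = 1 + vecMulVec x y := by
    intro x y hxy
    have hup : (1 + vecMulVec x y).BlockTriangular id := fun i j (hij : j < i) => by
      simp [vecMulVec_apply, Matrix.one_apply_ne hij.ne', hxy i j hij.le]
    refine ⟨⟨1 + vecMulVec x y, ?_⟩, ⟨hup, fun i => ?_⟩, rfl⟩
    · rw [Matrix.det_of_isUpperTriangular hup]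
      refine Finset.prod_eq_one fun i _ => ?_
      simp [vecMulVec_apply, hxy i i le_rfl]
    · show (1 + vecMulVec x y) i i = 1
      simp [vecMulVec_apply, hxy i i le_rfl]
  obtain ⟨v, hv, hve⟩ := mk a φ hV
  obtain ⟨w, hw, hwe⟩ := mk b ψ hW
  refine ⟨v, hv, ?_, ?_⟩
  · intro e
    rw [e, Matrix.SpecialLinearGroup.coe_one, left_eq_add] at hve
    obtain ⟨i, hi⟩ := Function.ne_iff.1 ha₀
    have hφne : φ ≠ 0 := by
      intro e'
      refine hψ₀ (funext fun j => ?_)
      have : ψ = 0 := by
        calc ψ = (ψ ᵥ* G₀) ᵥ* ((g⁻¹ : 𝔾) : Matrix (Fin n) (Fin n) F) := by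
              rw [vecMul_vecMul, hG₀, ← Matrix.SpecialLinearGroup.coe_mul, mul_inv_cancel,
                Matrix.SpecialLinearGroup.coe_one, vecMul_one]
          _ = 0 := by rw [← hφ, e', zero_vecMul]
      simpa [this] using (ψ_bot j).symm
    obtain ⟨j, hj⟩ := Function.ne_iff.1 hφne
    have := congrFun (congrFun hve (top k i)) j
    rw [vecMulVec_apply, a_top] at this
    exact mul_ne_zero hi hj this
  · have e : g * v = w * g := Subtype.ext (by
      rw [Matrix.SpecialLinearGroup.coe_mul, Matrix.SpecialLinearGroup.coe_mul, hve, hwe, mul_add,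
        add_mul, mul_one, one_mul, Matrix.mul_vecMulVec, Matrix.vecMulVec_mul])
    rw [e, mul_inv_cancel_right]
    exact hw

/-- Elements with nonvanishing corner minors lie in the open cell. -/
theorem exists_cell_of_llMinor_ne_zero [Finite F] {m₀ : 𝔾} (hm₀ : IsMono Fin.revPerm m₀) {g : 𝔾}
    (h : ∀ k : Fin (n + 1), llMinor g k ≠ 0) :
    ∃ u ∈ upperU n F, ∃ t : 𝔾, IsMono 1 t ∧ ∃ v ∈ upperU n F, g = u * t * m₀ * v := by
  classical
  let K : Fin n → Fin (n + 1) := fun i => ⟨n - 1 - i, by omega⟩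
  have hc : ∀ i : Fin n, ∃ c : Fin (K i) → F, ∀ j,
      g i (top (K i) j) + ∑ l, c l * g (bot (K i) l) (top (K i) j) = 0 := by
    intro i
    set P := (g : Matrix (Fin n) (Fin n) F).submatrix (bot (K i)) (top (K i)) with hP
    refine ⟨(fun j => - g i (top (K i) j)) ᵥ* P⁻¹, fun j => ?_⟩
    have hP' : IsUnit P.det := isUnit_iff_ne_zero.2 (h (K i))
    have := congrFun (show ((fun j => - g i (top (K i) j)) ᵥ* P⁻¹) ᵥ* P =
      fun j => - g i (top (K i) j) by
        rw [vecMul_vecMul, Matrix.nonsing_inv_mul _ hP', vecMul_one]) j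
    simp only [vecMul, dotProduct, hP, submatrix_apply] at this
    rw [hP]
    simp only [vecMul, dotProduct, submatrix_apply] at this ⊢
    rw [this]
    ring
  choose c hc using hc
  let u : upperU n F := uniTri fun e => c e.1.1 ⟨e.1.2 - e.1.1 - 1, by
    have h1 := Fin.lt_def.1 e.2; have := e.1.2.isLt; simp only [K]; omega⟩
  have hu : ∀ a b : Fin n, ((u : 𝔾) : Matrix (Fin n) (Fin n) F) a b =
      if h : a < b then c a ⟨b - a - 1, by
        have h1 := Fin.lt_def.1 h; have := b.isLt; simp only [K]; omega⟩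
      else if a = b then 1 else 0 := fun a b => rfl
  have hzero : ∀ i j : Fin n, (i : ℕ) + j + 1 < n → ((u : 𝔾) * g) i j = 0 := by
    intro i j hij
    have hjK : (j : ℕ) < K i := by simp only [K]; omega
    have := hc i ⟨j, hjK⟩
    rw [show top (K i) ⟨j, hjK⟩ = j from rfl] at this
    rw [← this, Matrix.SpecialLinearGroup.coe_mul, Matrix.mul_apply,
      ← Finset.add_sum_erase _ _ (Finset.mem_univ i), u.2.2 i, one_mul]
    congr 1
    symm
    have hrange : ∀ a : Fin n, a ∉ Set.range (bot (K i)) → a ≠ i →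
        ((u : 𝔾) : Matrix (Fin n) (Fin n) F) i a * g a j = 0 := by
      intro a ha hai
      have := lt_of_notMem_range_bot ha
      simp only [K] at this
      have : (a : ℕ) < i := by have := Fin.val_ne_of_ne hai; omega
      rw [u.2.1 i a (Fin.lt_def.2 this), zero_mul]
    have him : Finset.univ.map ⟨bot (K i), bot_injective _⟩ ⊆ Finset.univ.erase i := by
      intro a ha
      obtain ⟨l, -, rfl⟩ := Finset.mem_map.1 ha
      refine Finset.mem_erase.2 ⟨fun e => ?_, Finset.mem_univ _⟩
      have e' := Fin.ext_iff.1 e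
      simp only [Function.Embedding.coeFn_mk, bot, K] at e'
      have := i.isLt
      omega
    rw [← Finset.sum_subset him (fun a ha1 ha2 => hrange a
      (fun ⟨l, hl⟩ => ha2 (Finset.mem_map.2 ⟨l, Finset.mem_univ _, hl⟩))
      (Finset.mem_erase.1 ha1).1), Finset.sum_map]
    refine Finset.sum_congr rfl fun l _ => ?_
    have hl := l.isLt
    simp only [K] at hl
    have hlt : i < bot (K i) l := Fin.lt_def.2 (by simp only [bot, K]; omega)
    simp only [Function.Embedding.coeFn_mk]
    rw [hu, dif_pos hlt]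
    congr 2
    refine Fin.ext ?_
    simp only [bot, K]
    omega
  have hb : IsUp (m₀⁻¹ * ((u : 𝔾) * g)) := by
    intro a b hab
    have := hm₀.conj_apply isMono_one ((u : 𝔾) * g) a b
    rw [mul_one] at this
    rw [this, show ((u : 𝔾) * g) (Fin.revPerm a) ((1 : Equiv.Perm (Fin n)) b) = 0 from hzero _ _ (by
      simp only [Fin.revPerm_apply, Fin.val_rev, Equiv.Perm.coe_one, id_eq]
      have := Fin.lt_def.1 hab; have := a.isLt
      omega), mul_zero, zero_mul]
  obtain ⟨v, hv, t, ht, hbe⟩ := exists_upperU_mul_diag hb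
  refine ⟨(u : 𝔾)⁻¹, inv_mem u.2, m₀ * t * m₀⁻¹, ?_, t⁻¹ * v * t, conj_mem_upperU ht hv, ?_⟩
  · simpa using (hm₀.mul ht).mul hm₀.inv
  · have : g = (u : 𝔾)⁻¹ * (m₀ * (v * t)) := by rw [← hbe]; group
    rw [this]; group

/-- The corner minors separate the torus. -/
theorem torus_eq_of_llMinor {m₀ : 𝔾} (hm₀ : IsMono Fin.revPerm m₀) {t t' : 𝔾} (ht : IsMono 1 t)
    (ht' : IsMono 1 t') (h : ∀ k, llMinor (t * m₀ : 𝔾) k = llMinor (t' * m₀ : 𝔾) k) : t = t' := by
  classical
  let P : 𝔾 → ℕ → F := fun s j => ∏ a ∈ Finset.univ.filter (fun a : Fin n => j ≤ (a : ℕ)), s a a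
  have hP : ∀ j ≤ n, P t j = P t' j := by
    intro j hj
    let k : Fin (n + 1) := ⟨n - j, by omega⟩
    have hk := h k
    rw [llMinor_diag_mul ht, llMinor_diag_mul ht'] at hk
    have hk' := mul_right_cancel₀ (llMinor_mono_ne_zero hm₀ k) hk
    have e : Finset.univ.filter (fun a : Fin n => j ≤ (a : ℕ)) =
        Finset.univ.map ⟨bot k, bot_injective k⟩ := by
      ext a
      simp only [Finset.mem_filter, Finset.mem_univ, true_and, Finset.mem_map,
        Function.Embedding.coeFn_mk]
      constructor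
      · intro ha
        refine ⟨⟨a - j, by simp only [k]; have := a.isLt; omega⟩, Fin.ext ?_⟩
        simp only [bot, k]; omega
      · rintro ⟨l, rfl⟩
        simp only [bot, k]; omega
    simp only [P, e, Finset.prod_map, Function.Embedding.coeFn_mk]
    exact hk'
  have hne : ∀ (s : 𝔾), IsMono 1 s → ∀ j, P s j ≠ 0 := fun s hs j =>
    Finset.prod_ne_zero_iff.2 fun a _ => hs.ne_zero a
  refine Subtype.ext (Matrix.ext fun a b => ?_)
  by_cases hab : a = b
  · subst hab
    have step : ∀ s : 𝔾, P s a = s a a * P s (a + 1) := by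
      intro s
      have e : Finset.univ.filter (fun x : Fin n => (a : ℕ) ≤ (x : ℕ)) =
          insert a (Finset.univ.filter (fun x : Fin n => (a : ℕ) + 1 ≤ (x : ℕ))) := by
        ext x
        simp only [Finset.mem_filter, Finset.mem_univ, true_and, Finset.mem_insert, Fin.ext_iff]
        omega
      simp only [P]
      rw [e, Finset.prod_insert (by simp)]
    have h1 := hP a a.isLt.le
    rw [step t, step t', hP (a + 1) a.isLt] at h1
    exact mul_right_cancel₀ (hne t' ht' _) h1
  · rw [ht a b hab, ht' a b hab]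

section Count

variable (n F)

/-- Positions above the diagonal. -/
abbrev Pair : Type := {e : Fin n × Fin n // e.1 < e.2}

variable {n F}

/-- The weight of an exponent vector. -/
def wt (m : Pair n → ℕ) : ℕ := ∑ e, ((e.1.2 : ℕ) - e.1.1) * m e

variable (n F) in
/-- Functions of weighted degree less than `d`. -/
noncomputable def polyLT (d : ℕ) : Submodule F ((Pair n → F) → F) :=
  Submodule.span F {f | ∃ m : Pair n → ℕ, wt m < d ∧ f = fun v => ∏ e, v e ^ m e}

theorem polyLT_mono {a b : ℕ} (h : a ≤ b) : polyLT n F a ≤ polyLT n F b :=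
  Submodule.span_mono fun _ ⟨m, hm, e⟩ => ⟨m, hm.trans_le h, e⟩

theorem mul_mem_polyLT {a b : ℕ} {f g : (Pair n → F) → F} (hf : f ∈ polyLT n F (a + 1))
    (hg : g ∈ polyLT n F b) : f * g ∈ polyLT n F (a + b) := by
  induction hf using Submodule.span_induction with
  | mem x hx =>
    obtain ⟨m, hm, rfl⟩ := hx
    induction hg using Submodule.span_induction with
    | mem y hy =>
      obtain ⟨m', hm', rfl⟩ := hy
      refine Submodule.subset_span ⟨m + m', ?_, ?_⟩
      · simp only [wt, Pi.add_apply, mul_add, Finset.sum_add_distrib] at *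
        omega
      · funext v
        simp [pow_add, Finset.prod_mul_distrib]
    | zero => rw [mul_zero]; exact zero_mem _
    | add y z _ _ hy hz => rw [mul_add]; exact add_mem hy hz
    | smul c y _ hy => rw [mul_smul_comm]; exact Submodule.smul_mem _ _ hy
  | zero => rw [zero_mul]; exact zero_mem _
  | add x y _ _ hx hy => rw [add_mul]; exact add_mem hx hy
  | smul c x _ hx => rw [smul_mul_assoc]; exact Submodule.smul_mem _ _ hx

theorem const_mem_polyLT (c : F) {d : ℕ} (hd : 0 < d) :
    (fun _ => c : (Pair n → F) → F) ∈ polyLT n F d := by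
  have h1 : (fun _ => (1 : F) : (Pair n → F) → F) ∈ polyLT n F d :=
    Submodule.subset_span ⟨0, by simpa [wt] using hd, by simp⟩
  have := Submodule.smul_mem _ c h1
  convert this using 1
  funext v; simp

/-- Agreement up to lower weight. -/
def PolyEqv (d : ℕ) (f g : (Pair n → F) → F) : Prop :=
  f ∈ polyLT n F (d + 1) ∧ g ∈ polyLT n F (d + 1) ∧ f - g ∈ polyLT n F d

theorem PolyEqv.mul {a b : ℕ} {f₁ f₂ g₁ g₂ : (Pair n → F) → F} (h₁ : PolyEqv a f₁ g₁)
    (h₂ : PolyEqv b f₂ g₂) : PolyEqv (a + b) (f₁ * f₂) (g₁ * g₂) := by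
  refine ⟨polyLT_mono (add_assoc a b 1).ge (mul_mem_polyLT h₁.1 h₂.1),
    polyLT_mono (add_assoc a b 1).ge (mul_mem_polyLT h₁.2.1 h₂.2.1), ?_⟩
  rw [show f₁ * f₂ - g₁ * g₂ = f₁ * (f₂ - g₂) + g₂ * (f₁ - g₁) by ring]
  refine add_mem (mul_mem_polyLT h₁.1 h₂.2.2) ?_
  rw [add_comm a b]
  exact mul_mem_polyLT h₂.2.1 h₁.2.2

theorem polyEqv_one : PolyEqv 0 (1 : (Pair n → F) → F) 1 :=
  ⟨const_mem_polyLT 1 one_pos, const_mem_polyLT 1 one_pos, by simp⟩

theorem PolyEqv.pow {d : ℕ} {f g : (Pair n → F) → F} (h : PolyEqv d f g) :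
    ∀ m : ℕ, PolyEqv (m * d) (f ^ m) (g ^ m)
  | 0 => by simpa using polyEqv_one
  | m + 1 => by
    rw [pow_succ, pow_succ, Nat.add_mul, one_mul]
    exact (PolyEqv.pow h m).mul h

theorem PolyEqv.prod {ι : Type*} (s : Finset ι) {d : ι → ℕ} {f g : ι → (Pair n → F) → F}
    (h : ∀ i ∈ s, PolyEqv (d i) (f i) (g i)) :
    PolyEqv (∑ i ∈ s, d i) (∏ i ∈ s, f i) (∏ i ∈ s, g i) := by
  classical
  induction s using Finset.induction with
  | empty => simpa using polyEqv_one
  | @insert a s ha ih =>
    rw [Finset.sum_insert ha, Finset.prod_insert ha, Finset.prod_insert ha]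
    exact (h a (Finset.mem_insert_self _ _)).mul
      (ih fun i hi => h i (Finset.mem_insert_of_mem hi))

theorem entry_mem_polyLT (a b : Fin n) :
    (fun v => if h : a < b then v ⟨(a, b), h⟩ else if a = b then 1 else 0 : (Pair n → F) → F) ∈
      polyLT n F ((b : ℕ) - a + 1) := by
  classical
  by_cases h : a < b
  · refine Submodule.subset_span ⟨Pi.single ⟨(a, b), h⟩ 1, ?_, ?_⟩
    · rw [wt, Fintype.sum_eq_single (⟨(a, b), h⟩ : Pair n)]
      · simp
      · intro e he
        simp [he]
    · funext v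
      rw [dif_pos h, Fintype.prod_eq_single (⟨(a, b), h⟩ : Pair n)]
      · simp
      · intro e he
        simp [he]
  · simp only [dif_neg h]
    exact const_mem_polyLT _ (Nat.succ_pos _)

theorem urMinor_mem_polyLT [Finite F] (k : Fin (n + 1)) :
    (fun v => urMinor ((uniTri v : upperU n F) : 𝔾) k : (Pair n → F) → F) ∈
      polyLT n F ((k : ℕ) * (n - k) + 1) := by
  classical
  have : (fun v => urMinor ((uniTri v : upperU n F) : 𝔾) k : (Pair n → F) → F) =
      ∑ σ : Equiv.Perm (Fin k), ((Equiv.Perm.sign σ : ℤ) : F) • ∏ i, fun v : Pair n → F =>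
        if h : top k (σ i) < bot k i then v ⟨(top k (σ i), bot k i), h⟩
        else if top k (σ i) = bot k i then 1 else 0 := by
    funext v
    rw [urMinor, Matrix.det_apply', Finset.sum_apply]
    refine Finset.sum_congr rfl fun σ _ => ?_
    rw [Pi.smul_apply, smul_eq_mul, Finset.prod_apply]
    rfl
  rw [this]
  refine Submodule.sum_mem _ fun σ _ => Submodule.smul_mem _ _ ?_
  by_cases hpos : ∀ i, top k (σ i) ≤ bot k i
  · have h2 : ∀ s : Finset (Fin k), (∏ i ∈ s, fun v : Pair n → F =>
        if h : top k (σ i) < bot k i then v ⟨(top k (σ i), bot k i), h⟩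
        else if top k (σ i) = bot k i then 1 else 0) ∈
          polyLT n F ((∑ i ∈ s, ((bot k i : ℕ) - top k (σ i))) + 1) := by
      intro s
      induction s using Finset.induction with
      | empty =>
        simp only [Finset.prod_empty, Finset.sum_empty]
        exact const_mem_polyLT (1 : F) one_pos
      | @insert a s ha ih =>
        rw [Finset.prod_insert ha, Finset.sum_insert ha, add_assoc]
        exact mul_mem_polyLT (entry_mem_polyLT _ _) ih
    convert h2 Finset.univ using 3
    have hsum : ∑ i, ((bot k i : ℕ) - top k (σ i)) + ∑ i, (top k (σ i) : ℕ) =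
        ∑ i, (bot k i : ℕ) := by
      rw [← Finset.sum_add_distrib]
      exact Finset.sum_congr rfl fun i _ => Nat.sub_add_cancel (Fin.le_def.1 (hpos i))
    have h3 : ∑ i, (top k (σ i) : ℕ) = ∑ i : Fin k, (i : ℕ) :=
      Equiv.sum_comp σ (fun i : Fin k => (i : ℕ))
    have h4 : ∑ i, (bot k i : ℕ) = (k : ℕ) * (n - k) + ∑ i : Fin k, (i : ℕ) := by
      simp [bot, Finset.sum_add_distrib]
    omega
  · push Not at hpos
    obtain ⟨i, hi⟩ := hpos
    have hzero : (fun v : Pair n → F =>
        if h : top k (σ i) < bot k i then v ⟨(top k (σ i), bot k i), h⟩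
        else if top k (σ i) = bot k i then 1 else 0) = 0 := by
      funext v
      rw [dif_neg hi.not_gt, if_neg hi.ne']
      rfl
    rw [Finset.prod_eq_zero (Finset.mem_univ i) hzero]
    exact zero_mem _

theorem sum_minor_weight (n : ℕ) :
    ∑ k : Fin (n + 1), (k : ℕ) * (n - k) = ∑ e : Pair n, ((e.1.2 : ℕ) - e.1.1) := by
  classical
  have h1 : ∀ e : Pair n, ((e.1.2 : ℕ) - e.1.1) =
      ∑ k : Fin (n + 1), if (e.1.1 : ℕ) < k ∧ (k : ℕ) ≤ e.1.2 then 1 else 0 := by
    intro e
    rw [Fin.sum_univ_eq_sum_range (fun k => if (e.1.1 : ℕ) < k ∧ k ≤ e.1.2 then 1 else 0),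
      Finset.sum_boole]
    have : (Finset.range (n + 1)).filter (fun k => (e.1.1 : ℕ) < k ∧ k ≤ e.1.2) =
        Finset.Ioc (e.1.1 : ℕ) e.1.2 := by
      ext x
      simp only [Finset.mem_filter, Finset.mem_range, Finset.mem_Ioc]
      have := e.1.2.isLt
      omega
    rw [this]
    simp
  rw [Finset.sum_congr rfl fun e _ => h1 e, Finset.sum_comm]
  refine Finset.sum_congr rfl fun k _ => ?_
  rw [Finset.sum_boole, Nat.cast_id]
  let f : (Fin (k : ℕ) × Fin (n - k)) ↪ Pair n :=
    ⟨fun x => ⟨(⟨x.1, by have := x.1.isLt; have := k.isLt; omega⟩,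
        ⟨k + x.2, by have := x.2.isLt; omega⟩), Fin.lt_def.2 (by
          have := x.1.isLt; simp only; omega)⟩, fun a b hab => by
      simp only [Subtype.mk.injEq, Prod.mk.injEq, Fin.mk.injEq] at hab
      exact Prod.ext (Fin.ext hab.1) (Fin.ext (by omega))⟩
  have : Finset.univ.filter (fun e : Pair n => (e.1.1 : ℕ) < k ∧ (k : ℕ) ≤ e.1.2) =
      Finset.univ.map f := by
    ext e
    simp only [Finset.mem_filter, Finset.mem_univ, true_and, Finset.mem_map]
    constructor
    · rintro ⟨ha, hb⟩
      refine ⟨(⟨e.1.1, ha⟩, ⟨e.1.2 - k, by have := e.1.2.isLt; omega⟩), ?_⟩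
      refine Subtype.ext (Prod.ext (Fin.ext rfl) (Fin.ext ?_))
      show (k : ℕ) + (e.1.2 - k) = e.1.2
      omega
    · rintro ⟨x, rfl⟩
      exact ⟨x.1.isLt, Nat.le_add_right _ _⟩
  rw [this, Finset.card_map, Finset.card_univ, Fintype.card_prod, Fintype.card_fin,
    Fintype.card_fin]

variable [Fintype F]

theorem sum_eq_zero_of_polyLT {f : (Pair n → F) → F}
    (hf : f ∈ polyLT n F ((Fintype.card F - 1) * ∑ e : Pair n, ((e.1.2 : ℕ) - e.1.1))) :
    ∑ v, f v = 0 := by
  classical
  induction hf using Submodule.span_induction with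
  | mem x hx =>
    obtain ⟨m, hm, rfl⟩ := hx
    obtain ⟨e, he⟩ : ∃ e, m e < Fintype.card F - 1 := by
      by_contra hc
      push Not at hc
      refine hm.not_ge ?_
      rw [wt, Finset.mul_sum]
      exact Finset.sum_le_sum fun e _ => by
        rw [mul_comm]; exact Nat.mul_le_mul_left _ (hc e)
    rw [← Fintype.piFinset_univ, Finset.sum_prod_piFinset _ fun e x => x ^ m e]
    exact Finset.prod_eq_zero (Finset.mem_univ e) (FiniteField.sum_pow_lt_card_sub_one (K := F) _ he)
  | zero => simp
  | add x y _ _ hx hy => simp [Finset.sum_add_distrib, hx, hy]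
  | smul c x _ hx => simp [← Finset.mul_sum, hx]

/-- The number of unitriangular elements with prescribed upper right minors, modulo `p`. -/
theorem card_minor_fibre_eq (δ δ' : Fin (n + 1) → F)
    (h : ∀ k : Fin (n + 1), (k : ℕ) * (n - k) = 0 → δ k = δ' k) :
    (Nat.card {u : upperU n F // ∀ k, urMinor (u : 𝔾) k = δ k} : F) =
      (Nat.card {u : upperU n F // ∀ k, urMinor (u : 𝔾) k = δ' k} : F) := by
  classical
  haveI := Fintype.ofFinite (upperU n F)
  have key : ∀ d : Fin (n + 1) → F,
      (Nat.card {u : upperU n F // ∀ k, urMinor (u : 𝔾) k = d k} : F) =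
        ∑ v : Pair n → F, ∏ k : Fin (n + 1),
          (1 - (urMinor ((uniTri v : upperU n F) : 𝔾) k - d k) ^ (Fintype.card F - 1)) := by
    intro d
    have e : {u : upperU n F // ∀ k, urMinor (u : 𝔾) k = d k} ≃
        {v : Pair n → F // ∀ k, urMinor ((uniTri v : upperU n F) : 𝔾) k = d k} :=
      (Equiv.subtypeEquiv uniTriEquiv fun v => Iff.rfl).symm
    rw [Nat.card_congr e, Nat.card_eq_fintype_card, Fintype.card_subtype,
      Finset.natCast_card_filter]
    refine Finset.sum_congr rfl fun v _ => ?_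
    split_ifs with hv
    · symm
      refine Finset.prod_eq_one fun k _ => ?_
      rw [hv k, sub_self, zero_pow (by have := Fintype.one_lt_card (α := F); omega), sub_zero]
    · push Not at hv
      obtain ⟨k, hk⟩ := hv
      rw [Finset.prod_eq_zero (Finset.mem_univ k)]
      rw [FiniteField.pow_card_sub_one_eq_one _ (sub_ne_zero.2 hk), sub_self]
  rw [key, key, ← sub_eq_zero, ← Finset.sum_sub_distrib]
  refine sum_eq_zero_of_polyLT ?_
  have hk : ∀ k : Fin (n + 1), PolyEqv ((Fintype.card F - 1) * ((k : ℕ) * (n - k)))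
      (1 - ((fun v => urMinor ((uniTri v : upperU n F) : 𝔾) k) - fun _ => δ k) ^
        (Fintype.card F - 1))
      (1 - ((fun v => urMinor ((uniTri v : upperU n F) : 𝔾) k) - fun _ => δ' k) ^
        (Fintype.card F - 1)) := by
    intro k
    set D : (Pair n → F) → F := fun v => urMinor ((uniTri v : upperU n F) : 𝔾) k
    set d := (k : ℕ) * (n - k) with hd
    have h0 : PolyEqv d (D - fun _ => δ k) (D - fun _ => δ' k) := by
      refine ⟨sub_mem (urMinor_mem_polyLT k) (const_mem_polyLT _ (Nat.succ_pos _)),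
        sub_mem (urMinor_mem_polyLT k) (const_mem_polyLT _ (Nat.succ_pos _)), ?_⟩
      rw [sub_sub_sub_cancel_left]
      rcases Nat.eq_zero_or_pos d with e | e
      · rw [h k e, sub_self]; exact zero_mem _
      · exact sub_mem (const_mem_polyLT _ e) (const_mem_polyLT _ e)
    obtain ⟨h1, h2, h3⟩ := h0.pow (Fintype.card F - 1)
    refine ⟨sub_mem (const_mem_polyLT 1 (Nat.succ_pos _)) h1,
      sub_mem (const_mem_polyLT 1 (Nat.succ_pos _)) h2, ?_⟩
    rw [sub_sub_sub_cancel_left, ← neg_sub]
    exact neg_mem h3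
  have hp := (PolyEqv.prod Finset.univ fun k _ => hk k).2.2
  rw [← Finset.mul_sum, sum_minor_weight] at hp
  convert hp using 1
  funext v
  simp [Finset.prod_apply]

end Count

end CfsgLib.ClassK.SLn
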